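import Cfsg.Agent.H86.RG.Fi24Perm


/-!
# S3509, row `Fi24'`: the elements of order 5 and 7 (helper86)

* `pm_five` : `C(y) = ⟨y⟩ × S₉` for `y` of order 5;
* `pm_seven` : `y` of order 7 commutes with no transposition or `C(y) = ⟨y⟩ × S₇`.
-/

set_option autoImplicit false
open Cfsg

namespace Cfsg.Agent.H86.RG

open Subgroup
open Cfsg.Agent.R08
open Cfsg.Spor (Fi24 Fi24' Fi23)
open Cfsg.Agent.LThreeFi24.SNine Cfsg.Agent.LThreeFi24.FiveConj Cfsg.Agent.H841.Five Cfsg.Agent.H842.Seven Cfsg.Agent.H842.SevenSyl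
open Equiv

theorem pm_y0 : PM 9 y0 Phi where
  inj := Phi_injective
  sw _ _ h := Phi_swap_mem_L h
  com := Phi_comm_y0
  ex z hz := by
    obtain ⟨i, σ, -, -, h⟩ := Cfsg.Agent.H841.Five.exists_of_comm (n := z) hz.eq
    exact ⟨i, σ, by rw [zpow_natCast]; exact h⟩

theorem pm_y7 : PM 7 y7 Psi where
  inj := Psi_injective
  sw _ _ h := Psi_mem_L h
  com := y7_Psi
  ex z hz := by
    obtain ⟨i, σ, h⟩ := exists_of_comm7 (n := z) hz.eq
    exact ⟨i, σ, by rw [zpow_natCast]; exact h⟩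

theorem pm_five {y : Fi24} (hy : orderOf y = 5) : ∃ f, PM 9 y f := by
  obtain ⟨g, hg⟩ := exists_conj_five hy
  have h := pm_y0.conj g⁻¹
  have e : g⁻¹ * y0 * g⁻¹⁻¹ = y := by rw [← hg]; group
  rw [e] at h
  exact ⟨_, h⟩

theorem zpowers_of_map {g y w : Fi24} (h : (zpowers y).map (MulAut.conj g).toMonoidHom = zpowers w) :
    (g⁻¹ * w * g⁻¹⁻¹) ∈ zpowers y ∧ y ∈ zpowers (g⁻¹ * w * g⁻¹⁻¹) := by
  constructor
  · have h1 : w ∈ (zpowers y).map (MulAut.conj g).toMonoidHom := by rw [h]; exact mem_zpowers w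
    obtain ⟨a, ha, rfl⟩ := h1
    have e : g⁻¹ * (MulAut.conj g).toMonoidHom a * g⁻¹⁻¹ = a := by
      show g⁻¹ * (g * a * g⁻¹) * g⁻¹⁻¹ = a
      group
    rw [e]
    exact ha
  · have h1 : g * y * g⁻¹ ∈ zpowers w := by rw [← h]; exact ⟨y, mem_zpowers y, rfl⟩
    obtain ⟨k, hk⟩ := h1
    refine ⟨k, ?_⟩
    have hk' : w ^ k = g * y * g⁻¹ := hk
    show (g⁻¹ * w * g⁻¹⁻¹) ^ k = y
    rw [conj_zpow, hk']
    group

theorem pm_seven {y : Fi24} (hy : orderOf y = 7) : (∀ d ∈ TT, ¬ Commute y d) ∨ ∃ f, PM 7 y f := by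
  obtain ⟨g, h | h⟩ := cases7 (X := zpowers y) (by rw [Nat.card_zpowers, hy])
  · right
    obtain ⟨h1, h2⟩ := zpowers_of_map h
    exact ⟨_, (pm_y7.conj g⁻¹).of_zpowers h2 h1⟩
  · left
    intro d hd hyd
    obtain ⟨h1, h2⟩ := zpowers_of_map h
    obtain ⟨k, hk⟩ := h1
    have h3 : Commute (g⁻¹ * c * g⁻¹⁻¹) d := by
      have hk' : y ^ k = g⁻¹ * c * g⁻¹⁻¹ := hk
      rw [← hk']
      exact hyd.zpow_left k
    have h4 := h3.map (MulAut.conj g).toMonoidHom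
    have e1 : (MulAut.conj g).toMonoidHom (g⁻¹ * c * g⁻¹⁻¹) = c := by
      show g * (g⁻¹ * c * g⁻¹⁻¹) * g⁻¹ = c
      group
    rw [e1] at h4
    exact not_comm_c (FiTwentyFour.conj hd g) h4.eq

end Cfsg.Agent.H86.RG
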