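import Cfsg.Agent.H86.RG.Fi24Ev
import Cfsg.Agent.H86.RG.Fi24Inst

/-!
# S3509, row `Fi24'`: no cover by elements of `Fi24'` (helper86)

`caseL_of` : from the 4-product rule, the elements of order 13, 11, 17, 23, 29 and the class `7B`.
-/

set_option autoImplicit false
open Cfsg

namespace Cfsg.Agent.H86.RG

open MulAction Subgroup Cfsg.Agent.H106.RC Cfsg.Agent.H873.RG
open Cfsg.Agent.R08
open Cfsg.Spor (Fi24 Fi24' Fi23)

/-! ### Interfaces -/

/-- the 4-product rule -/
def Two4 : Prop := ∀ {Ω ι : Type} [Finite Ω] [Nonempty Ω] [Finite ι] [MulAction Spor.Fi24' Ω],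
  Env Spor.Fi24' Ω (⊤ : Subgroup Spor.Fi24') → ∀ {x : ι → Fi24'} {r : ι → ℕ}, PF x r → Cov Ω x →
  ∀ (z : Spor.Fi24') (l : List Spor.Fi24), Fac l 4 (z : Fi24) → (∀ i, x i * z = z * x i) →
  (∀ i, r i = 2 → x i = z) → False

def Inv21 : Prop := ∀ x s : Spor.Fi24, orderOf x = 3 → orderOf s = 7 → Commute x s →
  (∀ d ∈ R08.FiTwentyFour.L, ¬ Commute s d) → ∃ z, orderOf z = 2 ∧ z ∈ commutator Spor.Fi24 ∧ Commute z x ∧ Commute z s

def Thirteen : Prop := ∀ {y x : Spor.Fi24}, orderOf y = 13 → orderOf x = 3 → Commute x y →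
  ∃ K : Subgroup Spor.Fi24, K ≤ commutator Spor.Fi24 ∧ IsSimpleGroup K ∧ y ∈ K ∧ (∀ k ∈ K, Commute x k) ∧ 2 ∣ Nat.card K

def ThirteenPrimes : Prop := ∀ {y x : Spor.Fi24} {r : ℕ}, orderOf y = 13 → r.Prime → orderOf x = r → Commute x y →
  r = 2 ∨ r = 3 ∨ r = 13

def Eleven : Prop := ∀ {y : Spor.Fi24}, orderOf y = 11 → ∃ d e f : Spor.Fi24,
  d ∈ Cfsg.Agent.R08.FiTwentyFour.L ∧ e ∈ Cfsg.Agent.R08.FiTwentyFour.L ∧ f ∈ Cfsg.Agent.R08.FiTwentyFour.L ∧
  Commute d e ∧ Commute d f ∧ Commute e f ∧ Commute d y ∧ Commute e y ∧ Commute f y ∧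
  ∀ a ∈ Cfsg.Agent.R08.FiTwentyFour.L, Commute a y → a = d ∨ a = e ∨ a = f

def SelfCent : Prop := ∀ {y x : Spor.Fi24}, orderOf y = 17 ∨ orderOf y = 23 ∨ orderOf y = 29 →
  x ∈ commutator Spor.Fi24 → Commute x y → x ∈ Subgroup.zpowers y

/-! ### Lemmas -/

theorem comm_of_pow {G : Type*} [Group G] {x d : G} {q k : ℕ} (hq : q.Prime) (hx : x ^ q = 1) (hk : ¬ q ∣ k)
    (h : Commute (x ^ k) d) : Commute x d := by
  obtain ⟨m, -, hm⟩ := Nat.exists_mul_mod_eq_one_of_coprime ((hq.coprime_iff_not_dvd.2 hk).symm) hq.one_lt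
  have h1 : x = (x ^ k) ^ m := by
    rw [← pow_mul, pow_eq_pow_mod (k * m) hx, hm, pow_one]
  rw [h1]
  exact h.pow_left _

theorem card_Fi24' : Nat.card Fi24' = 1255205709190661721292800 := FiTwentyFour.card_commutator

theorem prime_cases {q : ℕ} (hq : q.Prime) (h : q ∣ Nat.card Fi24') :
    q = 2 ∨ q = 3 ∨ q = 5 ∨ q = 7 ∨ q = 11 ∨ q = 13 ∨ q = 17 ∨ q = 23 ∨ q = 29 := by
  rw [card_Fi24', show (1255205709190661721292800 : ℕ) =
    2 ^ 21 * (3 ^ 16 * (5 ^ 2 * (7 ^ 3 * (11 * (13 * (17 * (23 * 29))))))) by norm_num] at h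
  have key : ∀ {p : ℕ}, p.Prime → q ∣ p → q = p := fun hp h => (Nat.prime_dvd_prime_iff_eq hq hp).1 h
  rcases (Nat.Prime.dvd_mul hq).1 h with h | h
  · exact Or.inl (key (by norm_num) (hq.dvd_of_dvd_pow h))
  rcases (Nat.Prime.dvd_mul hq).1 h with h | h
  · exact Or.inr (Or.inl (key (by norm_num) (hq.dvd_of_dvd_pow h)))
  rcases (Nat.Prime.dvd_mul hq).1 h with h | h
  · exact Or.inr (Or.inr (Or.inl (key (by norm_num) (hq.dvd_of_dvd_pow h))))
  rcases (Nat.Prime.dvd_mul hq).1 h with h | h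
  · exact Or.inr (Or.inr (Or.inr (Or.inl (key (by norm_num) (hq.dvd_of_dvd_pow h)))))
  rcases (Nat.Prime.dvd_mul hq).1 h with h | h
  · exact Or.inr (Or.inr (Or.inr (Or.inr (Or.inl (key (by norm_num) h)))))
  rcases (Nat.Prime.dvd_mul hq).1 h with h | h
  · exact Or.inr (Or.inr (Or.inr (Or.inr (Or.inr (Or.inl (key (by norm_num) h))))))
  rcases (Nat.Prime.dvd_mul hq).1 h with h | h
  · exact Or.inr (Or.inr (Or.inr (Or.inr (Or.inr (Or.inr (Or.inl (key (by norm_num) h)))))))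
  rcases (Nat.Prime.dvd_mul hq).1 h with h | h
  · exact Or.inr (Or.inr (Or.inr (Or.inr (Or.inr (Or.inr (Or.inr (Or.inl (key (by norm_num) h))))))))
  · exact Or.inr (Or.inr (Or.inr (Or.inr (Or.inr (Or.inr (Or.inr (Or.inr (key (by norm_num) h))))))))

section

variable {Ω ι : Type} [Nonempty Ω] [MulAction Fi24' Ω]

/-- a cover has at least two members -/
theorem two_members (hE : Env Fi24' Ω (⊤ : Subgroup Fi24')) {x : ι → Fi24'} {r : ι → ℕ} (hx : PF x r) (hc : Cov Ω x)
    (i : ι) (h : ∀ j, j = i) : False := by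
  refine hx.ne i (hE.single fun ω => ?_)
  obtain ⟨j, hj⟩ := hc ω
  rw [h j] at hj
  exact hj

/-- members of order 17, 23, 29 -/
theorem case_big (hS : SelfCent) (hE : Env Fi24' Ω (⊤ : Subgroup Fi24')) {x : ι → Fi24'} {r : ι → ℕ} (hx : PF x r)
    (hc : Cov Ω x) (i : ι) (hi : r i = 17 ∨ r i = 23 ∨ r i = 29) : False := by
  refine two_members hE hx hc i fun j => ?_
  by_contra hj
  obtain ⟨k, hk⟩ := hS (y := (x i : Fi24)) (x := (x j : Fi24)) (by rw [coe_order hx i]; exact hi) (x j).2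
    (coe_comm hx j i)
  have hk' : ((x i : Fi24') : Fi24) ^ k = x j := hk
  have h1 : ((x j : Fi24') : Fi24) ^ r i = 1 := by
    rw [← hk', ← zpow_natCast, ← zpow_mul, mul_comm, zpow_mul, zpow_natCast, coe_pow hx i, one_zpow]
  have h2 := orderOf_dvd_of_pow_eq_one h1
  rw [coe_order hx j, Nat.prime_dvd_prime_iff_eq (hx.prime j) (hx.prime i)] at h2
  exact hj (hx.inj h2)

variable [Finite ι]

/-- a cover commuting with an involution -/
theorem even_case [Finite Ω] (hT : Two4) (hIH : IHx (Nat.card Fi24')) (hE : Env Fi24' Ω (⊤ : Subgroup Fi24'))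
    {x : ι → Fi24'} {r : ι → ℕ} (hx : PF x r) (hc : Cov Ω x) (z : Fi24') (hz2 : orderOf z = 2)
    (hz : ∀ i, x i * z = z * x i) (h2 : ∀ i, r i = 2 → x i = z) : False :=
  evenz hIH hE hx hc z hz2 hz h2 fun l hl => hT hE hx hc z l hl hz h2

/-- a member of order 13 -/
theorem case_13 [Finite Ω] (hT : Two4) (h13 : Thirteen) (h13' : ThirteenPrimes) (hIH : IHx (Nat.card Fi24'))
    (hE : Env Fi24' Ω (⊤ : Subgroup Fi24')) {x : ι → Fi24'} {r : ι → ℕ} (hx : PF x r) (hc : Cov Ω x)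
    (h2 : ∀ j, r j ≠ 2) (i : ι) (hi : r i = 13) : False := by
  classical
  have hr : ∀ j, j ≠ i → r j = 3 := by
    intro j hj
    rcases h13' (y := (x i : Fi24)) (x := (x j : Fi24)) (by rw [coe_order hx i]; exact hi) (hx.prime j)
      (coe_order hx j) (coe_comm hx j i) with h | h | h
    · exact absurd h (h2 j)
    · exact h
    · exact absurd (hx.inj (h.trans hi.symm)) hj
  by_cases hex : ∃ j, j ≠ i
  swap
  · push Not at hex
    exact two_members hE hx hc i hex
  obtain ⟨j, hj⟩ := hex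
  have huniq : ∀ k, k ≠ i → k = j := fun k hk => hx.inj ((hr k hk).trans (hr j hj).symm)
  obtain ⟨K, hKL, hKs, hyK, hKc, hK2⟩ := h13 (y := (x i : Fi24)) (x := (x j : Fi24))
    (by rw [coe_order hx i]; exact hi) (by rw [coe_order hx j]; exact hr j hj) (coe_comm hx j i)
  have := fin24
  have hfK : Finite K := inferInstance
  have : Fact (Nat.Prime 2) := ⟨Nat.prime_two⟩
  obtain ⟨z, hz⟩ := exists_prime_orderOf_dvd_card' (G := K) 2 hK2
  let z' : Fi24' := ⟨z, hKL z.2⟩
  have hz' : orderOf z' = 2 := by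
    rw [← Subgroup.orderOf_coe, show ((z' : Fi24') : Fi24) = (z : Fi24) from rfl, Subgroup.orderOf_coe]
    exact hz
  let Y : Set Fi24' := {w | ∃ c : Fi24', c * x j = x j * c ∧ w = c * x i * c⁻¹}
  -- the closure is normal in K
  let C : Subgroup K := ((closure Y).map (commutator Fi24).subtype).subgroupOf K
  have hCn : C.Normal := by
    refine ⟨fun n hn g => ?_⟩
    rw [mem_subgroupOf] at hn ⊢
    let g' : Fi24' := ⟨g, hKL g.2⟩
    have hg : g' * x j = x j * g' := Subtype.ext (hKc g g.2).symm.eq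
    obtain ⟨w, hw, hwn⟩ := hn
    refine ⟨g' * w * g'⁻¹, ?_, ?_⟩
    · have h3 : (closure Y).map (MulAut.conj g').toMonoidHom ≤ closure Y := by
        rw [MonoidHom.map_closure, closure_le]
        rintro _ ⟨_, ⟨c, hcj, rfl⟩, rfl⟩
        refine subset_closure ⟨g' * c, ?_, ?_⟩
        · rw [mul_assoc, hcj, ← mul_assoc, hg, mul_assoc]
        · show g' * (c * x i * c⁻¹) * g'⁻¹ = _
          group
      exact h3 ⟨w, hw, rfl⟩
    · show (g : Fi24) * ((w : Fi24') : Fi24) * (g : Fi24)⁻¹ = _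
      have hwn' : ((w : Fi24') : Fi24) = (n : Fi24) := hwn
      rw [hwn']
      rfl
  have hyC : (⟨(x i : Fi24), hyK⟩ : K) ∈ C := by
    rw [mem_subgroupOf]
    exact ⟨x i, subset_closure ⟨1, by rw [one_mul, mul_one], by rw [one_mul, inv_one, mul_one]⟩, rfl⟩
  have hCt : C = ⊤ := by
    rcases hKs.eq_bot_or_eq_top_of_normal C hCn with h | h
    · rw [h, mem_bot] at hyC
      exact absurd (congrArg Subtype.val hyC) (coe_ne hx i)
    · exact h
  have hzC : z' ∈ closure Y := by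
    have h3 : z ∈ C := by rw [hCt]; trivial
    rw [mem_subgroupOf] at h3
    obtain ⟨w, hw, hwz⟩ := h3
    have : w = z' := Subtype.ext hwz
    rw [← this]; exact hw
  have hpair : ∀ ω : Ω, x j • ω = ω ∨ x i • ω = ω := by
    intro ω
    obtain ⟨k, hk⟩ := hc ω
    by_cases hki : k = i
    · rw [hki] at hk; exact Or.inr hk
    · rw [huniq k hki] at hk; exact Or.inl hk
  have hpair2 := Cfsg.Agent.H867.RC.pair_mv hpair hzC
  have hzj : z' * x j = x j * z' := Subtype.ext (hKc z z.2).symm.eq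
  have hPF := pf_update hx i Nat.prime_two (fun j _ => h2 j) (y := z')
    (by rw [← hz']; exact pow_orderOf_eq_one z') (by
      intro h
      rw [h, orderOf_one] at hz'
      exact absurd hz' (by norm_num))
    (fun k hk => by rw [huniq k hk]; exact hzj)
  have hCov : Cov Ω (Function.update x i z') := by
    intro ω
    rcases hpair2 ω with h | h
    · exact ⟨j, by rw [Function.update_of_ne hj]; exact h⟩
    · exact ⟨i, by rw [Function.update_self]; exact h⟩
  refine even_case hT hIH hE hPF hCov z' hz' (fun k => ?_) fun k hk => ?_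
  · by_cases hki : k = i
    · subst hki; rw [Function.update_self]
    · rw [Function.update_of_ne hki, huniq k hki]; exact hzj.symm
  · by_cases hki : k = i
    · subst hki; rw [Function.update_self]
    · rw [Function.update_of_ne hki] at hk
      exact absurd hk (h2 k)

/-- a member of order 11 -/
theorem case_11 (h11 : Eleven) (hIH : IHx (Nat.card Fi24')) (hE : Env Fi24' Ω (⊤ : Subgroup Fi24'))
    {x : ι → Fi24'} {r : ι → ℕ} (hx : PF x r) (hc : Cov Ω x) (h2 : ∀ j, r j ≠ 2) (i : ι) (hi : r i = 11) : False := by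
  obtain ⟨d, e, f, hd, he, hf, hde, hdf, hef, hdy, hey, hfy, hall⟩ := h11 (y := (x i : Fi24))
    (by rw [coe_order hx i]; exact hi)
  -- conjugates
  have hcj : ∀ j, ∀ a, a = d ∨ a = e ∨ a = f → (x j : Fi24) * a * (x j : Fi24)⁻¹ = d ∨
      (x j : Fi24) * a * (x j : Fi24)⁻¹ = e ∨ (x j : Fi24) * a * (x j : Fi24)⁻¹ = f := by
    intro j a ha
    have haT : a ∈ TT := by rcases ha with rfl | rfl | rfl <;> assumption
    have hay : Commute a (x i : Fi24) := by rcases ha with rfl | rfl | rfl <;> assumption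
    refine hall _ (FiTwentyFour.conj haT _) ?_
    have h3 : Commute (x j : Fi24) (x i : Fi24) := coe_comm hx j i
    exact (h3.mul_left hay).mul_left h3.inv_left
  have hcd : ∀ a, a = d ∨ a = e ∨ a = f → Commute d a := by
    rintro a (rfl | rfl | rfl)
    · exact Commute.refl _
    · exact hde
    · exact hdf
  -- three times
  have h6 : ∀ j, Commute ((x j : Fi24) ^ 6) d := by
    intro j
    set g : Fi24 := (x j : Fi24) with hg
    have a1 := hcj j d (Or.inl rfl)
    have a2 := hcj j _ a1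
    have a3 := hcj j _ a2
    rw [← hg] at a1 a2 a3
    have e2 : g * (g * d * g⁻¹) * g⁻¹ = g ^ 2 * d * (g ^ 2)⁻¹ := by
      rw [pow_two, mul_inv_rev]; simp only [mul_assoc]
    have e3 : g * (g * (g * d * g⁻¹) * g⁻¹) * g⁻¹ = g ^ 3 * d * (g ^ 3)⁻¹ := gp_conj_three g d
    rw [e3] at a3
    rw [e2] at a2
    have c1 : ∀ k : ℕ, g ^ k * d * (g ^ k)⁻¹ = d → Commute (g ^ k) d := fun k hk => mul_inv_eq_iff_eq_mul.1 hk
    have c2 : ∀ k l : ℕ, g ^ (k + l) * d * (g ^ (k + l))⁻¹ = g ^ k * d * (g ^ k)⁻¹ → Commute (g ^ l) d := by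
      intro k l h
      apply c1
      have h3 : g ^ (k + l) * d * (g ^ (k + l))⁻¹ = g ^ k * (g ^ l * d * (g ^ l)⁻¹) * (g ^ k)⁻¹ := by
        rw [pow_add, mul_inv_rev]; simp only [mul_assoc]
      rw [h3] at h
      exact mul_left_cancel (mul_right_cancel h)
    have p1 : Commute (g ^ 1) d → Commute (g ^ 6) d := fun h => by
      rw [show 6 = 1 * 6 from rfl, pow_mul]; exact h.pow_left _
    have p2 : Commute (g ^ 2) d → Commute (g ^ 6) d := fun h => by
      rw [show 6 = 2 * 3 from rfl, pow_mul]; exact h.pow_left _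
    have p3 : Commute (g ^ 3) d → Commute (g ^ 6) d := fun h => by
      rw [show 6 = 3 * 2 from rfl, pow_mul]; exact h.pow_left _
    have b1 : g ^ 1 * d * (g ^ 1)⁻¹ = g * d * g⁻¹ := by rw [pow_one]
    rcases a1 with h | h
    · exact p1 (by rw [pow_one]; exact mul_inv_eq_iff_eq_mul.1 h)
    rcases a2 with h' | h'
    · exact p2 (c1 2 h')
    rcases a3 with h'' | h''
    · exact p3 (c1 3 h'')
    -- all three in {e, f}
    have d21 : g ^ 2 * d * (g ^ 2)⁻¹ = g ^ 1 * d * (g ^ 1)⁻¹ → Commute (g ^ 6) d := fun h => p1 (c2 1 1 h)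
    have d31 : g ^ 3 * d * (g ^ 3)⁻¹ = g ^ 1 * d * (g ^ 1)⁻¹ → Commute (g ^ 6) d := fun h => p2 (c2 1 2 h)
    have d32 : g ^ 3 * d * (g ^ 3)⁻¹ = g ^ 2 * d * (g ^ 2)⁻¹ → Commute (g ^ 6) d := fun h => p1 (c2 2 1 h)
    rw [b1] at d21 d31
    rcases h with h | h <;> rcases h' with h' | h' <;> rcases h'' with h'' | h''
    · exact d21 (h'.trans h.symm)
    · exact d21 (h'.trans h.symm)
    · exact d31 (h''.trans h.symm)
    · exact d32 (h''.trans h'.symm)
    · exact d32 (h''.trans h'.symm)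
    · exact d31 (h''.trans h.symm)
    · exact d21 (h'.trans h.symm)
    · exact d21 (h'.trans h.symm)
  have h5 : ∀ j, r j ≠ 3 → Commute (x j : Fi24) d := by
    intro j hj
    refine comm_of_pow (hx.prime j) (coe_pow hx j) ?_ (h6 j)
    intro h
    rw [show 6 = 2 * 3 from rfl] at h
    rcases (Nat.Prime.dvd_mul (hx.prime j)).1 h with h | h
    · exact h2 j ((Nat.prime_dvd_prime_iff_eq (hx.prime j) Nat.prime_two).1 h)
    · exact hj ((Nat.prime_dvd_prime_iff_eq (hx.prime j) Nat.prime_three).1 h)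
  by_cases hex : ∃ j, r j = 3
  · obtain ⟨j, hj⟩ := hex
    have a1 := hcj j d (Or.inl rfl)
    have a2 := hcj j _ a1
    exact cyc hIH hE hx hc hj h2 hd (fun k hk => h5 k fun h => hk (hx.inj (h.trans hj.symm))) (hcd _ a1) (hcd _ a2)
  · push Not at hex
    exact dead hIH hE hx hc ⟨d, hd, fun j => h5 j (hex j)⟩

end

/-- **no cover by elements of `Fi24'`** -/
theorem caseL_of (hT : Two4) (h21 : Inv21) (h13 : Thirteen) (h13' : ThirteenPrimes) (h11 : Eleven) (hS : SelfCent)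
    (hIH : IHx (Nat.card Spor.Fi24')) {Ω : Type} [Finite Ω] [Nonempty Ω] [MulAction Spor.Fi24' Ω]
    (hE : Env Spor.Fi24' Ω (⊤ : Subgroup Spor.Fi24')) {ι : Type} [Finite ι] {x : ι → Spor.Fi24'} {r : ι → ℕ}
    (hx : PF x r) (hc : Cov Ω x) : False := by
  have := fin24
  by_cases e2 : ∃ i, r i = 2
  · obtain ⟨i, hi⟩ := e2
    have : Fact (Nat.Prime 2) := ⟨Nat.prime_two⟩
    refine even_case hT hIH hE hx hc (x i) (orderOf_eq_prime (by rw [← hi]; exact hx.pow i) (hx.ne i))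
      (fun j => hx.comm j i) fun j hj => ?_
    rw [hx.inj (hj.trans hi.symm)]
  push Not at e2
  by_cases e17 : ∃ i, r i = 17 ∨ r i = 23 ∨ r i = 29
  · obtain ⟨i, hi⟩ := e17
    exact case_big hS hE hx hc i hi
  push Not at e17
  by_cases e13 : ∃ i, r i = 13
  · obtain ⟨i, hi⟩ := e13
    exact case_13 hT h13 h13' hIH hE hx hc e2 i hi
  push Not at e13
  by_cases e11 : ∃ i, r i = 11
  · obtain ⟨i, hi⟩ := e11
    exact case_11 h11 hIH hE hx hc e2 i hi
  push Not at e11
  by_cases e5 : ∃ i, r i = 5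
  · obtain ⟨i, hi⟩ := e5
    obtain ⟨f, hf⟩ := pm_five (y := (x i : Fi24)) (by rw [coe_order hx i]; exact hi)
    refine pm_case hIH hE hx hc e2 i (by norm_num) hf fun q hq hq9 hq2 hq5 => ?_
    rw [hi] at hq5
    interval_cases q <;> first | omega | (exfalso; revert hq; norm_num)
  push Not at e5
  have hpr : ∀ j, r j = 3 ∨ r j = 7 := by
    intro j
    have h1 : r j ∣ Nat.card Fi24' := by
      have : Fact (r j).Prime := ⟨hx.prime j⟩
      rw [← orderOf_eq_prime (hx.pow j) (hx.ne j)]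
      exact orderOf_dvd_natCard _
    have := prime_cases (hx.prime j) h1
    have a := e2 j
    have b := e17 j
    have c := e13 j
    have d := e11 j
    have e := e5 j
    tauto
  by_cases e7 : ∃ i, r i = 7
  · obtain ⟨i, hi⟩ := e7
    rcases pm_seven (y := (x i : Fi24)) (by rw [coe_order hx i]; exact hi) with h7 | ⟨f, hf⟩
    · by_cases hex : ∃ j, j ≠ i
      swap
      · push Not at hex
        exact two_members hE hx hc i hex
      obtain ⟨j, hj⟩ := hex
      have h3 : ∀ k, k ≠ i → r k = 3 := fun k hk => (hpr k).resolve_right fun h => hk (hx.inj (h.trans hi.symm))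
      have huniq : ∀ k, k ≠ i → k = j := fun k hk => hx.inj ((h3 k hk).trans (h3 j hj).symm)
      obtain ⟨z, hz2, hzL, hzx, hzs⟩ := h21 (x j : Fi24) (x i : Fi24) (by rw [coe_order hx j]; exact h3 j hj)
        (by rw [coe_order hx i]; exact hi) (coe_comm hx j i) h7
      refine even_case hT hIH hE hx hc ⟨z, hzL⟩ (by rw [Subgroup.orderOf_mk]; exact hz2) (fun k => ?_)
        fun k hk => absurd hk (e2 k)
      by_cases hk : k = i
      · subst hk; exact Subtype.ext hzs.symm.eq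
      · rw [huniq k hk]; exact Subtype.ext hzx.symm.eq
    · refine pm_case hIH hE hx hc e2 i (by norm_num) hf fun q hq hq9 hq2 hq5 => ?_
      rw [hi] at hq5
      interval_cases q <;> first | omega | (exfalso; revert hq; norm_num)
  push Not at e7
  obtain ⟨ω⟩ := (inferInstance : Nonempty Ω)
  obtain ⟨i, -⟩ := hc ω
  refine two_members hE hx hc i fun j => hx.inj ?_
  rw [(hpr i).resolve_right (e7 i), (hpr j).resolve_right (e7 j)]

end Cfsg.Agent.H86.RG
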