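import Cfsg.Agent.H867.RC.Spor
import Cfsg.Agent.H873.RG.Defs

/-!
# S3509, rows `Fi23` and `Fi24'`: general lemmas on covers (helper86)

* `not_alt` : a group of order `N`, `k! < 2 N < (k+1)!`, is not alternating;
* `mruleQ` : the M-rule for a quasisimple subgroup;
* `Dead Ω D` : no cover by a commuting family commutes with a member of `D`;
* `repl_one`, `repl_two` : replacement of one or two members by commutators.
-/

set_option autoImplicit false
open Cfsg

namespace Cfsg.Agent.H86.RG

open MulAction Subgroup Cfsg.Agent.H106.RC Cfsg.Agent.H873.RG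

/-! ### Alternating groups have the wrong order -/

theorem not_alt {H : Type*} [Group H] {k : ℕ} (h1 : k.factorial < 2 * Nat.card H)
    (h2 : 2 * Nat.card H < (k + 1).factorial) : ¬ IsAlternating H := by
  rintro ⟨n, hn, ⟨e⟩⟩
  have h3 : 2 * Nat.card H = n.factorial := by
    have : Nontrivial (Fin n) := Fin.nontrivial_iff_two_le.2 (by omega)
    rw [Nat.card_congr e.toEquiv, Nat.card_eq_fintype_card, two_mul_card_alternatingGroup, Fintype.card_perm, Fintype.card_fin]
  rw [h3] at h1 h2
  have h4 : k < n := by
    by_contra h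
    exact absurd (Nat.factorial_le (not_lt.1 h)) (not_le.2 h1)
  have h5 : n < k + 1 := by
    by_contra h
    exact absurd (Nat.factorial_le (not_lt.1 h)) (not_le.2 h2)
  omega

/-! ### The M-rule for a quasisimple subgroup -/

theorem comm_of_perfect {G : Type*} [Group G] {M : Subgroup G} (h : Group.IsPerfect M) : ⁅M, M⁆ = M := by
  have h1 := h.commutator_eq_top
  have h2 : (commutator M).map M.subtype = ⁅M, M⁆ := by
    rw [commutator_def, Subgroup.map_commutator, ← MonoidHom.range_eq_map, Subgroup.range_subtype]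
  rw [← h2, h1, ← MonoidHom.range_eq_map, Subgroup.range_subtype]

theorem nsa_of_quasi {M : Type*} [Group M] (hq : IsQuasisimple M) (hna : ¬ IsAlternating (M ⧸ center M)) :
    NSA (M ⧸ center M) := by
  refine ⟨hq.2, fun hc => ?_, hna⟩
  have hs := hq.2
  have h1 := hq.1.commutator_eq_top
  have h2 : commutator (M ⧸ center M) = ⊤ := by
    have h4 : (commutator M).map (QuotientGroup.mk' (center M)) = commutator (M ⧸ center M) := by
      rw [commutator_def, commutator_def, Subgroup.map_commutator, ← MonoidHom.range_eq_map,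
        MonoidHom.range_eq_top.2 (QuotientGroup.mk'_surjective _)]
    rw [← h4, h1, ← MonoidHom.range_eq_map, MonoidHom.range_eq_top.2 (QuotientGroup.mk'_surjective _)]
  have h3 : commutator (M ⧸ center M) = ⊥ := by
    rw [commutator_eq_bot_iff_center_eq_top]
    rw [eq_top_iff]
    intro a _
    rw [mem_center_iff]
    intro b
    exact hc.is_comm.comm _ _
  rw [h2] at h3
  have := hs.toNontrivial
  exact absurd h3 top_ne_bot

/-- **M-rule** for a quasisimple subgroup of `N` -/
theorem mruleQ {G S Ω ι : Type} [Group G] [Finite G] [Group S] [Finite S] [MulAction G Ω] [Finite ι]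
    (hIH : IHx (Nat.card S)) {N : Subgroup G} (e : N ≃* S) {M : Subgroup G} (hMN : M ≤ N) (hne : M ≠ N)
    (hq : IsQuasisimple M) (hna : ¬ IsAlternating (M ⧸ center M)) {x : ι → G} {r : ι → ℕ} (hx : PF x r)
    (hcov : Cov Ω x) (hnorm : ∀ i, x i ∈ Subgroup.normalizer (M : Set G)) (ω : Ω) :
    M ≤ stabilizer G ω ∨ ∃ j, (∀ m ∈ M, x j * m = m * x j) ∧ x j • ω = ω :=
  mrule_IHx hIH e hMN hne (comm_of_perfect hq.1) (QuotientGroup.mk' (center M)) (QuotientGroup.mk'_surjective _)
    (by rw [QuotientGroup.ker_mk']) (nsa_of_quasi hq hna) hx hcov hnorm ω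

/-! ### Replacement -/

section repl

variable {G Ω ι : Type*} [Group G] [MulAction G Ω]

/-- no cover by a commuting family commutes with a member of `D` -/
def Dead (Ω ι : Type*) [MulAction G Ω] (D : Set G) : Prop :=
  ∀ (x : ι → G) (r : ι → ℕ), PF x r → Cov Ω x → ∀ d ∈ D, (∀ i, d * x i = x i * d) → False

open Classical in
theorem pf_update {x : ι → G} {r : ι → ℕ} (h : PF x r) (i : ι) {y : G} {p : ℕ} (hp : p.Prime)
    (hpr : ∀ j, j ≠ i → r j ≠ p) (hy : y ^ p = 1) (hy1 : y ≠ 1) (hc : ∀ j, j ≠ i → y * x j = x j * y) :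
    PF (Function.update x i y) (Function.update r i p) := by
  refine ⟨fun j => ?_, fun j k hjk => ?_, fun j => ?_, fun j => ?_, fun j k => ?_⟩
  · by_cases hj : j = i
    · subst hj; rw [Function.update_self]; exact hp
    · rw [Function.update_of_ne hj]; exact h.prime j
  · by_cases hj : j = i
    · subst hj
      by_cases hk : k = j
      · exact hk.symm
      · rw [Function.update_self, Function.update_of_ne hk] at hjk
        exact absurd hjk.symm (hpr k hk)
    · by_cases hk : k = i
      · subst hk
        rw [Function.update_self, Function.update_of_ne hj] at hjk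
        exact absurd hjk (hpr j hj)
      · rw [Function.update_of_ne hj, Function.update_of_ne hk] at hjk
        exact h.inj hjk
  · by_cases hj : j = i
    · subst hj; rw [Function.update_self, Function.update_self]; exact hy
    · rw [Function.update_of_ne hj, Function.update_of_ne hj]; exact h.pow j
  · by_cases hj : j = i
    · subst hj; rw [Function.update_self]; exact hy1
    · rw [Function.update_of_ne hj]; exact h.ne j
  · by_cases hj : j = i
    · subst hj
      by_cases hk : k = j
      · subst hk; rfl
      · rw [Function.update_self, Function.update_of_ne hk]; exact hc k hk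
    · by_cases hk : k = i
      · subst hk
        rw [Function.update_self, Function.update_of_ne hj]; exact (hc j hj).symm
      · rw [Function.update_of_ne hj, Function.update_of_ne hk]; exact h.comm j k

theorem comm_cm {c x z : G} (hc : c * z = z * c) (hx : x * z = z * x) :
    (c * x * c⁻¹ * x⁻¹) * z = z * (c * x * c⁻¹ * x⁻¹) :=
  ((((show Commute c z from hc).mul_left hx).mul_left ((show Commute c z from hc).inv_left)).mul_left
    ((show Commute x z from hx).inv_left)).eq

/-- **replacement of one member** by a commutator which is dead -/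
theorem repl_one {D : Set G} (hD : Dead Ω ι D) {x : ι → G} {r : ι → ℕ} (hx : PF x r) (h : Cov Ω x) (i : ι) {c : G}
    (hc : ∀ j, j ≠ i → c * x j = x j * c) {p : ℕ} (hp : p.Prime) (hpr : ∀ j, j ≠ i → r j ≠ p)
    (hy : (c * x i * c⁻¹ * (x i)⁻¹) ^ p = 1) (hy1 : c * x i * c⁻¹ * (x i)⁻¹ ≠ 1) {d : G} (hd : d ∈ D)
    (hdy : d * (c * x i * c⁻¹ * (x i)⁻¹) = (c * x i * c⁻¹ * (x i)⁻¹) * d) (hdx : ∀ j, j ≠ i → d * x j = x j * d) :
    False := by
  classical
  refine hD _ _ (pf_update hx i hp hpr hy hy1 fun j hj => comm_cm (hc j hj) (hx.comm i j))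
    (by convert h.mv_comm i hc) d hd fun j => ?_
  by_cases hj : j = i
  · subst hj; rw [Function.update_self]; exact hdy
  · rw [Function.update_of_ne hj]; exact hdx j hj

/-- **replacement of two members** by commutators: first `x i` by `y = [c, x i]`, then `x j` by `s = [b, x j]` -/
theorem repl_two {D : Set G} (hD : Dead Ω ι D) {x : ι → G} {r : ι → ℕ} (hx : PF x r) (h : Cov Ω x) {i j : ι} (hij : i ≠ j)
    (hri : r i = 3) (hrj : r j = 2) {c b y s : G} (hy0 : y = c * x i * c⁻¹ * (x i)⁻¹) (hs0 : s = b * x j * b⁻¹ * (x j)⁻¹)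
    (hc : ∀ k, k ≠ i → c * x k = x k * c) (hbx : ∀ k, k ≠ i → k ≠ j → b * x k = x k * b) (hby : b * y = y * b)
    (hy : y ^ 2 = 1) (hy1 : y ≠ 1) (hs : s ^ 3 = 1) (hs1 : s ≠ 1) (hsy : s * y = y * s)
    {d : G} (hd : d ∈ D) (hdy : d * y = y * d) (hds : d * s = s * d)
    (hdx : ∀ k, k ≠ i → k ≠ j → d * x k = x k * d) : False := by
  classical
  have hc1 : Cov Ω (Function.update x i y) := by
    rw [hy0]; convert h.mv_comm i hc
  have hj1 : Function.update x i y j = x j := Function.update_of_ne hij.symm _ _
  have hc2 : Cov Ω (Function.update (Function.update x i y) j s) := by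
    have h1 := hc1.mv_comm j (c := b) (fun k hk => by
      by_cases hki : k = i
      · subst hki; rw [Function.update_self]; exact hby
      · rw [Function.update_of_ne hki]; exact hbx k hki hk)
    rw [hj1, ← hs0] at h1
    convert h1
  -- the orders
  have hcomm : ∀ k, k ≠ i → k ≠ j → y * x k = x k * y ∧ s * x k = x k * s := by
    intro k hki hkj
    refine ⟨?_, ?_⟩
    · rw [hy0]; exact comm_cm (hc k hki) (hx.comm i k)
    · rw [hs0]; exact comm_cm (hbx k hki hkj) (hx.comm j k)
  let x' := Function.update (Function.update x i y) j s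
  let r' := Function.update (Function.update r i 2) j 3
  have xi : x' i = y := by
    show Function.update (Function.update x i y) j s i = y
    rw [Function.update_of_ne hij, Function.update_self]
  have xj : x' j = s := Function.update_self _ _ _
  have xk : ∀ k, k ≠ i → k ≠ j → x' k = x k := fun k h1 h2 => by
    show Function.update (Function.update x i y) j s k = x k
    rw [Function.update_of_ne h2, Function.update_of_ne h1]
  have ri : r' i = 2 := by
    show Function.update (Function.update r i 2) j 3 i = 2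
    rw [Function.update_of_ne hij, Function.update_self]
  have rj : r' j = 3 := Function.update_self _ _ _
  have rk : ∀ k, k ≠ i → k ≠ j → r' k = r k := fun k h1 h2 => by
    show Function.update (Function.update r i 2) j 3 k = r k
    rw [Function.update_of_ne h2, Function.update_of_ne h1]
  have r3 : ∀ k, k ≠ i → k ≠ j → r k ≠ 3 ∧ r k ≠ 2 := fun k h1 h2 =>
    ⟨fun h3 => h1 (hx.inj (h3.trans hri.symm)), fun h3 => h2 (hx.inj (h3.trans hrj.symm))⟩
  have hPF : PF x' r' := by
    refine ⟨fun k => ?_, fun k l hkl => ?_, fun k => ?_, fun k => ?_, fun k l => ?_⟩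
    · by_cases h1 : k = i
      · rw [h1, ri]; exact Nat.prime_two
      by_cases h2 : k = j
      · rw [h2, rj]; exact Nat.prime_three
      rw [rk k h1 h2]; exact hx.prime k
    · by_cases h1 : k = i
      · by_cases h3 : l = i
        · rw [h1, h3]
        by_cases h4 : l = j
        · rw [h1, h4, ri, rj] at hkl; exact absurd hkl (by norm_num)
        rw [h1, ri, rk l h3 h4] at hkl
        exact absurd hkl.symm (r3 l h3 h4).2
      by_cases h2 : k = j
      · by_cases h3 : l = i
        · rw [h2, h3, ri, rj] at hkl; exact absurd hkl (by norm_num)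
        by_cases h4 : l = j
        · rw [h2, h4]
        rw [h2, rj, rk l h3 h4] at hkl
        exact absurd hkl.symm (r3 l h3 h4).1
      rw [rk k h1 h2] at hkl
      by_cases h3 : l = i
      · rw [h3, ri] at hkl; exact absurd hkl (r3 k h1 h2).2
      by_cases h4 : l = j
      · rw [h4, rj] at hkl; exact absurd hkl (r3 k h1 h2).1
      rw [rk l h3 h4] at hkl
      exact hx.inj hkl
    · by_cases h1 : k = i
      · rw [h1, xi, ri]; exact hy
      by_cases h2 : k = j
      · rw [h2, xj, rj]; exact hs
      rw [xk k h1 h2, rk k h1 h2]; exact hx.pow k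
    · by_cases h1 : k = i
      · rw [h1, xi]; exact hy1
      by_cases h2 : k = j
      · rw [h2, xj]; exact hs1
      rw [xk k h1 h2]; exact hx.ne k
    · by_cases h1 : k = i
      · by_cases h3 : l = i
        · rw [h1, h3]
        by_cases h4 : l = j
        · rw [h1, h4, xi, xj]; exact hsy.symm
        rw [h1, xi, xk l h3 h4]; exact (hcomm l h3 h4).1
      by_cases h2 : k = j
      · by_cases h3 : l = i
        · rw [h2, h3, xi, xj]; exact hsy
        by_cases h4 : l = j
        · rw [h2, h4]
        rw [h2, xj, xk l h3 h4]; exact (hcomm l h3 h4).2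
      rw [xk k h1 h2]
      by_cases h3 : l = i
      · rw [h3, xi]; exact ((hcomm k h1 h2).1).symm
      by_cases h4 : l = j
      · rw [h4, xj]; exact ((hcomm k h1 h2).2).symm
      rw [xk l h3 h4]; exact hx.comm k l
  refine hD x' r' hPF hc2 d hd fun k => ?_
  by_cases h1 : k = i
  · rw [h1, xi]; exact hdy
  by_cases h2 : k = j
  · rw [h2, xj]; exact hds
  rw [xk k h1 h2]; exact hdx k h1 h2

/-- conjugate of a cover -/
theorem Cov.conj {x : ι → G} (h : Cov Ω x) (g : G) : Cov Ω (fun i => g * x i * g⁻¹) := by
  intro ω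
  obtain ⟨i, hi⟩ := h (g⁻¹ • ω)
  refine ⟨i, ?_⟩
  show (g * x i * g⁻¹) • ω = ω
  rw [mul_smul, mul_smul, hi, smul_inv_smul]

theorem PF.conj {x : ι → G} {r : ι → ℕ} (h : PF x r) (g : G) : PF (fun i => g * x i * g⁻¹) r := by
  refine ⟨h.prime, h.inj, fun i => ?_, fun i h1 => h.ne i ?_, fun i j => ?_⟩
  · rw [conj_pow, h.pow, mul_one, mul_inv_cancel]
  · exact conj_eq_one_iff.1 h1
  · show g * x i * g⁻¹ * (g * x j * g⁻¹) = g * x j * g⁻¹ * (g * x i * g⁻¹)
    calc g * x i * g⁻¹ * (g * x j * g⁻¹) = g * (x i * x j) * g⁻¹ := by group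
      _ = g * (x j * x i) * g⁻¹ := by rw [h.comm]
      _ = _ := by group

end repl

end Cfsg.Agent.H86.RG
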