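import Cfsg.Agent.H86.RG.Fam
import Cfsg.Agent.H86.RG.Prm
import Cfsg.Agent.H842.RadTwoB
import Cfsg.Agent.H842.SevenSyl
import Cfsg.Agent.H843.One
import Cfsg.Agent.H843.N11
import Cfsg.Agent.H843.N17
import Cfsg.Agent.H843.N23
import Cfsg.Agent.H843.N29
import Cfsg.Agent.H898.FiveNorm
import Cfsg.Agent.H831.Short
import Cfsg.Agent.H816.PreEight
import Cfsg.Agent.H830.Con24

/-!
# S3509, row `Fi24'`: covers commuting with a transposition (helper86)

`TT` : the transpositions of `Fi24`.
* `fin24`, `odd_mem` : elements of odd order are in `Fi24'`;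
* **`dead`** : a cover of a `Fi24'`-set by commuting elements of `Fi24'` commuting with a transposition of `Fi24`;
* `cyc` : an odd cover all of whose members but one, of order 3, commute with `d`, where `d, xdx⁻¹, x²dx⁻²` commute.
-/

set_option autoImplicit false
open Cfsg

namespace Cfsg.Agent.H86.RG

open MulAction Subgroup Cfsg.Agent.H106.RC Cfsg.Agent.H873.RG
open Cfsg.Agent.R08
open Cfsg.Spor (Fi24 Fi24' Fi23)

/-- the transpositions of `Fi24` -/
abbrev TT : Set Fi24 := FiTwentyFour.L

theorem fin24 : Finite Fi24 := FiTwentyFour.finite_Fi24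

/-- the members of the family commute with a transposition of `Fi24` -/
def CD {ι : Type*} (x : ι → Fi24') : Prop := ∃ d ∈ TT, ∀ i, Commute ((x i : Fi24') : Fi24) d

/-- **a cover commuting with a transposition** -/
theorem dead (hIH : IHx (Nat.card Fi24')) {Ω ι : Type} [Nonempty Ω] [Finite ι] [MulAction Fi24' Ω]
    (hE : Env Fi24' Ω (⊤ : Subgroup Fi24')) {x : ι → Fi24'} {r : ι → ℕ} (hx : PF x r) (hc : Cov Ω x) (hd : CD x) :
    False := by
  have := fin24
  obtain ⟨d, hd, hxd⟩ := hd
  let M : Subgroup Fi24' := (centralizer ({d} : Set Fi24)).subgroupOf (commutator Fi24)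
  have hM : ∀ k : Fi24', k ∈ M ↔ Commute (k : Fi24) d := by
    intro k
    rw [show M = (centralizer ({d} : Set Fi24)).subgroupOf (commutator Fi24) from rfl, mem_subgroupOf,
      mem_centralizer_singleton_iff]
    exact Iff.rfl
  obtain ⟨e⟩ := Cfsg.Agent.H842.RadTwo.equiv_cent hd M hM
  have hs23 : IsSimpleGroup Fi23 := Fischer.Fi23Simple.isFi23.1
  have hf23 : Finite Fi23 := Finite.of_equiv _ e.symm.toEquiv
  have hsM : IsSimpleGroup M := (MulEquiv.isSimpleGroup_congr e).1 hs23
  have hnc : ¬ IsMulCommutative Fi23 := fun h => Fischer.Fi23Class.z0_ncomm (h.is_comm.comm _ _)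
  have hcM : ∀ m ∈ M, (∀ k ∈ M, m * k = k * m) → m = 1 := by
    intro m hm hk
    have h1 : (⟨m, hm⟩ : M) ∈ center M := by
      rw [mem_center_iff]
      intro g
      exact Subtype.ext (hk g g.2).symm
    rcases hsM.eq_bot_or_eq_top_of_normal (center M) inferInstance with h2 | h2
    · rw [h2, mem_bot] at h1
      exact congrArg Subtype.val h1
    · exfalso
      apply hnc
      constructor; constructor
      intro a b
      apply e.injective
      rw [map_mul, map_mul]
      have : e b ∈ center M := by rw [h2]; trivial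
      exact mem_center_iff.1 this (e a)
  have hcard23 : Nat.card Fi23 = 4089470473293004800 := Fischer.Fi23Simple.isFi23.2
  have hcardM : Nat.card M = 4089470473293004800 := by rw [← Nat.card_congr e.toEquiv, hcard23]
  have hne : M ≠ (⊤ : Subgroup Fi24') := by
    intro h
    have h1 : Nat.card M = Nat.card Fi24' := by rw [h, Nat.card_congr Subgroup.topEquiv.toEquiv]
    rw [hcardM, show Nat.card Fi24' = 1255205709190661721292800 from FiTwentyFour.card_commutator] at h1
    exact absurd h1 (by norm_num)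
  have hperf : ⁅M, M⁆ = M := by
    have h1 : commutator M = ⊤ := by
      rcases hsM.eq_bot_or_eq_top_of_normal (commutator M) inferInstance with h2 | h2
      · exfalso
        rw [commutator_eq_bot_iff_center_eq_top] at h2
        apply hnc
        constructor; constructor
        intro a b
        apply e.injective
        rw [map_mul, map_mul]
        have : e b ∈ center M := by rw [h2]; trivial
        exact mem_center_iff.1 this (e a)
      · exact h2
    exact comm_of_perfect ⟨h1⟩
  have hxM : ∀ i, x i ∈ M := fun i => (hM _).2 (hxd i)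
  have key : ∀ ω : Ω, M ≤ stabilizer Fi24' ω := by
    intro ω
    rcases mrule_IHx hIH (Subgroup.topEquiv : (⊤ : Subgroup Fi24') ≃* Fi24') (M := M) le_top hne hperf
      (e.symm : M →* Fi23) e.symm.surjective (by
        intro a ha
        rw [MonoidHom.mem_ker] at ha
        have : a = 1 := e.symm.injective (by rw [map_one]; exact ha)
        rw [this]; exact one_mem _)
      ⟨hs23, hnc, not_alt (k := 20) (by rw [hcard23]; decide) (by rw [hcard23]; decide)⟩ hx hc
      (fun i => le_normalizer (hxM i)) ω with h | ⟨j, hj, -⟩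
    · exact h
    · exact absurd (hcM _ (hxM j) hj) (hx.ne j)
  obtain ⟨ω⟩ := (inferInstance : Nonempty Ω)
  obtain ⟨i, -⟩ := hc ω
  exact hx.ne i (hE.single fun ω => key ω (hxM i))

/-! ### Elements -/

/-- elements of odd order are in `Fi24'` -/
theorem odd_mem {g : Fi24} {n : ℕ} (hn : Odd n) (h : g ^ n = 1) : g ∈ commutator Fi24 := by
  obtain ⟨k, hk⟩ := hn
  have h1 : g * (g ^ k) ^ 2 = 1 := by rw [← pow_mul, mul_comm k 2, ← pow_succ', ← hk, h]
  have h2 : g = ((g ^ k) ^ 2)⁻¹ := eq_inv_of_mul_eq_one_left h1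
  rw [h2]
  exact inv_mem (Subgroup.sq_mem_of_index_two FiTwentyFour.index_commutator _)

/-- a member of the family in `Fi24` -/
theorem coe_comm {ι : Type*} {x : ι → Fi24'} {r : ι → ℕ} (hx : PF x r) (i j : ι) :
    Commute ((x i : Fi24') : Fi24) (x j) := congrArg Subtype.val (hx.comm i j)

theorem coe_pow {ι : Type*} {x : ι → Fi24'} {r : ι → ℕ} (hx : PF x r) (i : ι) : ((x i : Fi24') : Fi24) ^ r i = 1 := by
  rw [← Subgroup.coe_pow, hx.pow]; rfl

theorem coe_ne {ι : Type*} {x : ι → Fi24'} {r : ι → ℕ} (hx : PF x r) (i : ι) : ((x i : Fi24') : Fi24) ≠ 1 := fun h =>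
  hx.ne i (Subtype.ext h)

theorem coe_order {ι : Type*} {x : ι → Fi24'} {r : ι → ℕ} (hx : PF x r) (i : ι) :
    orderOf ((x i : Fi24') : Fi24) = r i := by
  have : Fact (r i).Prime := ⟨hx.prime i⟩
  exact orderOf_eq_prime (coe_pow hx i) (coe_ne hx i)

theorem gp_conj_mul {G : Type*} [Group G] (g a b : G) : g * (a * b) * g⁻¹ = (g * a * g⁻¹) * (g * b * g⁻¹) := by group

theorem gp_conj_three {G : Type*} [Group G] (g d : G) :
    g * (g * (g * d * g⁻¹) * g⁻¹) * g⁻¹ = g ^ 3 * d * (g ^ 3)⁻¹ := by
  rw [show g ^ 3 = g * g * g by rw [pow_succ, pow_two], mul_inv_rev, mul_inv_rev]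
  simp only [mul_assoc]

theorem gp_reassoc {G : Type*} [Group G] (d e g a : G) : d * e * g * a * g⁻¹ = d * e * (g * a * g⁻¹) := by group

/-- **the cyclic case**: `x i` of order 3 moves `d` to commuting transpositions, the others commute with `d` -/
theorem cyc (hIH : IHx (Nat.card Fi24')) {Ω ι : Type} [Nonempty Ω] [Finite ι] [MulAction Fi24' Ω]
    (hE : Env Fi24' Ω (⊤ : Subgroup Fi24')) {x : ι → Fi24'} {r : ι → ℕ} (hx : PF x r) (hc : Cov Ω x) {i : ι}
    (hi : r i = 3) (h2 : ∀ j, r j ≠ 2) {d : Fi24} (hd : d ∈ TT) (hdj : ∀ j, j ≠ i → Commute ((x j : Fi24') : Fi24) d)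
    (hd1 : Commute d ((x i : Fi24) * d * (x i : Fi24)⁻¹))
    (hd2 : Commute d ((x i : Fi24) * ((x i : Fi24) * d * (x i : Fi24)⁻¹) * (x i : Fi24)⁻¹)) : False := by
  classical
  set g : Fi24 := (x i : Fi24) with hg
  set e : Fi24 := g * d * g⁻¹ with he
  set f : Fi24 := g * e * g⁻¹ with hf
  have h3 : g ^ 3 = 1 := by rw [hg, ← hi]; exact coe_pow hx i
  by_cases hfix : Commute g d
  · refine dead hIH hE hx hc ⟨d, hd, fun j => ?_⟩
    by_cases hj : j = i
    · subst hj; exact hfix
    · exact hdj j hj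
  have heT : e ∈ TT := FiTwentyFour.conj hd g
  have hfT : f ∈ TT := FiTwentyFour.conj heT g
  have hgf : g * f * g⁻¹ = d := by
    have e1 : g * f * g⁻¹ = g ^ 3 * d * (g ^ 3)⁻¹ := gp_conj_three g d
    rw [e1, h3, one_mul, inv_one, mul_one]
  have hef : Commute e f := by
    have h4 := hd1.map (MulAut.conj g).toMonoidHom
    exact h4
  -- c = d e
  let c : Fi24' := ⟨d * e, FiTwentyFour.even hd heT⟩
  have hdd : d * d = 1 := FiTwentyFour.sq hd
  have hee : e * e = 1 := FiTwentyFour.sq heT
  have hff : f * f = 1 := FiTwentyFour.sq hfT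
  have hy : ((c * x i * c⁻¹ * (x i)⁻¹ : Fi24') : Fi24) = d * f := by
    have hci : (c : Fi24)⁻¹ = e * d := by
      rw [show (c : Fi24) = d * e from rfl, mul_inv_rev, inv_eq_of_mul_eq_one_left hee, inv_eq_of_mul_eq_one_left hdd]
    have e1 : ((c * x i * c⁻¹ * (x i)⁻¹ : Fi24') : Fi24) = d * e * (g * (e * d) * g⁻¹) := by
      rw [Subgroup.coe_mul, Subgroup.coe_mul, Subgroup.coe_mul, Subgroup.coe_inv, Subgroup.coe_inv, hci]
      exact gp_reassoc d e g (e * d)
    have e2 : g * (e * d) * g⁻¹ = f * e := by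
      calc g * (e * d) * g⁻¹ = (g * e * g⁻¹) * (g * d * g⁻¹) := gp_conj_mul g e d
        _ = f * e := rfl
    rw [e1, e2, mul_assoc d e, ← mul_assoc e f, hef.eq, mul_assoc f e e, hee, mul_one]
  have hxd : ∀ j, j ≠ i → Commute ((x j : Fi24') : Fi24) e := by
    intro j hj
    have h4 : Commute ((x j : Fi24') : Fi24) g := coe_comm hx j i
    exact (h4.mul_right (hdj j hj)).mul_right h4.inv_right
  have hcj : ∀ j, j ≠ i → c * x j = x j * c := fun j hj => Subtype.ext
    (show Commute (d * e) ((x j : Fi24') : Fi24) from ((hdj j hj).symm.mul_left (hxd j hj).symm)).eq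
  have hdf : Commute d f := hd2
  have hne : d ≠ f := by
    intro h
    apply hfix
    have h4 : g * d * g⁻¹ = d := by
      conv_lhs => rw [h]
      exact hgf
    exact (mul_inv_eq_iff_eq_mul.1 h4)
  refine dead hIH hE (pf_update hx i Nat.prime_two (fun j _ => h2 j) (y := c * x i * c⁻¹ * (x i)⁻¹) ?_ ?_
    fun j hj => comm_cm (hcj j hj) (hx.comm i j)) (by convert hc.mv_comm i hcj) ⟨d, hd, fun j => ?_⟩
  · apply Subtype.ext
    rw [Subgroup.coe_pow, hy, hdf.mul_pow, pow_two, pow_two, hdd, hff, mul_one]; rfl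
  · intro h
    have h4 := congrArg (Subtype.val) h
    rw [hy] at h4
    apply hne
    calc d = d * f * f := by rw [mul_assoc, hff, mul_one]
      _ = f := by rw [h4]; exact one_mul f
  · by_cases hj : j = i
    · subst hj
      rw [Function.update_self, hy]
      exact (Commute.refl d).mul_left hdf.symm
    · rw [Function.update_of_ne hj]
      exact hdj j hj

end Cfsg.Agent.H86.RG
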