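import Cfsg.Agent.H86.RG.Fi24Base

/-!
# S3509, row `Fi24'`: a family commuting with an involution (helper86)

* `two_or_four` : an involution of `Fi24'` is the product of 2 or 4 distinct commuting transpositions;
* `evenz` : a cover whose members commute with an involution `z`, the member of order 2 being `z`, when the 4-product
  case is excluded.
-/

set_option autoImplicit false
open Cfsg

namespace Cfsg.Agent.H86.RG

open MulAction Subgroup Cfsg.Agent.H106.RC Cfsg.Agent.H873.RG
open Cfsg.Agent.R08
open Cfsg.Spor (Fi24 Fi24' Fi23)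

/-- `l` lists distinct commuting transpositions with product `z` -/
def Fac (l : List Fi24) (k : ℕ) (z : Fi24) : Prop :=
  l.Nodup ∧ l.length = k ∧ (∀ a ∈ l, a ∈ FiTwentyFour.L) ∧ (∀ a ∈ l, ∀ b ∈ l, Commute a b) ∧ l.prod = z


theorem two_or_four {z : Fi24} (hz : z ∈ commutator Fi24) (h2 : orderOf z = 2) :
    (∃ l, Fac l 2 z) ∨ ∃ l, Fac l 4 z := by
  have := fin24
  have F := Cfsg.Agent.H831.Types.inh_of_defs Cfsg.Agent.H830.Con24.fgroup
  have h8 := Cfsg.Agent.H830.Con24.isT8
  obtain ⟨m, hm1, hm4, l, hnd, hlen, hD, hc, hp⟩ :=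
    (Cfsg.Agent.H816.Prods.main_eight F h8 (Cfsg.Agent.H816.PreEight.cover F h8)).1 z h2
  have hm : m = 1 ∨ m = 2 ∨ m = 3 ∨ m = 4 := by omega
  rcases hm with rfl | rfl | rfl | rfl
  · exfalso
    rcases l with _ | ⟨a, _ | ⟨b, l⟩⟩
    · simp at hlen
    · rw [List.prod_singleton] at hp
      exact FiTwentyFour.odd (hD a (by simp)) (by rw [hp]; exact hz)
    · simp at hlen
  · exact Or.inl ⟨l, hnd, hlen, hD, hc, hp⟩
  · exfalso
    rcases l with _ | ⟨a, _ | ⟨b, _ | ⟨c, _ | ⟨d, l⟩⟩⟩⟩
    · simp at hlen
    · simp at hlen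
    · simp at hlen
    · simp only [List.prod_cons, List.prod_nil, mul_one] at hp
      have h5 := FiTwentyFour.even (hD b (by simp)) (hD c (by simp))
      have h6 : a * (b * c) ∈ commutator Fi24 := by rw [hp]; exact hz
      exact FiTwentyFour.odd (hD a (by simp)) ((Subgroup.mul_mem_cancel_right _ h5).1 h6)
    · simp at hlen
  · exact Or.inr ⟨l, hnd, hlen, hD, hc, hp⟩

/-- an element of odd order whose square commutes with `d` commutes with `d` -/
theorem comm_of_sq {G : Type*} [Group G] {x d : G} {n : ℕ} (hn : Odd n) (hx : x ^ n = 1) (h : Commute (x ^ 2) d) :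
    Commute x d := by
  obtain ⟨k, rfl⟩ := hn
  have h1 : x = (x ^ 2) ^ (k + 1) := by
    rw [← pow_mul, show 2 * (k + 1) = (2 * k + 1) + 1 by ring, pow_succ, hx, one_mul]
  rw [h1]
  exact h.pow_left _

/-- the factors of a product of two are permuted by the centralizer -/
theorem fac_two {z x : Fi24} {l : List Fi24} (hl : Fac l 2 z) (hx : Commute x z) :
    ∃ d e, d ∈ TT ∧ e ∈ TT ∧ d ≠ e ∧ Commute d e ∧ l = [d, e] ∧ Commute (x ^ 2) d := by
  have := fin24
  obtain ⟨hnd, hlen, hD, hc, hp⟩ := hl
  rcases l with _ | ⟨d, _ | ⟨e, _ | ⟨f, l⟩⟩⟩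
  · simp at hlen
  · simp at hlen
  · have hde : d ≠ e := by simpa using hnd
    have hce : Commute d e := hc d (by simp) e (by simp)
    have hdD : d ∈ TT := hD d (by simp)
    have heD : e ∈ TT := hD e (by simp)
    refine ⟨d, e, hdD, heD, hde, hce, rfl, ?_⟩
    have hT : IsThreeTranspositionSet FiTwentyFour.L :=
      (Cfsg.Agent.Fischer160.Inherit.isThree_of_fdata
        (Cfsg.Agent.H831.Types.inh_of_defs Cfsg.Agent.H830.Con24.fgroup).fd).1
    have hN : Cfsg.Agent.H831.Short.NoRel FiTwentyFour.L (2 * 2) :=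
      (Cfsg.Agent.H831.Short.noRel_eight hT Cfsg.Agent.H830.Con24.isT8).mono (by omega)
    have hp' : d * e = z := by simpa using hp
    have hcz : x * (d * e) * x⁻¹ = d * e := by rw [hp', hx.eq, mul_inv_cancel_right]
    have hu := Cfsg.Agent.H831.Short.unique hT hN (by norm_num) [x * d * x⁻¹, x * e * x⁻¹] [d, e]
      (by simpa using fun h => hde h) hnd (by simp) (by simp)
      (by
        intro a ha
        simp only [List.mem_cons, List.not_mem_nil, or_false] at ha
        rcases ha with rfl | rfl
        · exact FiTwentyFour.conj hdD x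
        · exact FiTwentyFour.conj heD x) hD
      (by
        have h1 : Commute (x * d * x⁻¹) (x * e * x⁻¹) := hce.map (MulAut.conj x).toMonoidHom
        intro a ha b hb
        simp only [List.mem_cons, List.not_mem_nil, or_false] at ha hb
        rcases ha with rfl | rfl <;> rcases hb with rfl | rfl
        · exact Commute.refl _
        · exact h1
        · exact h1.symm
        · exact Commute.refl _) hc
      (by
        simp only [List.prod_cons, List.prod_nil, mul_one]
        rw [← gp_conj_mul, hcz])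
    have h1 := (hu (x * d * x⁻¹)).1 (by simp)
    have h2 := (hu (x * e * x⁻¹)).1 (by simp)
    simp only [List.mem_cons, List.not_mem_nil, or_false] at h1 h2
    have key : x * (x * d * x⁻¹) * x⁻¹ = d := by
      rcases h1 with h1 | h1
      · rw [h1, h1]
      · rw [h1]
        rcases h2 with h2 | h2
        · exact h2
        · exfalso
          apply hde
          have h3 : x * d * x⁻¹ = x * e * x⁻¹ := h1.trans h2.symm
          exact mul_left_cancel (mul_right_cancel h3)
    show x ^ 2 * d = d * x ^ 2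
    conv_rhs => rw [← key]
    rw [pow_two]
    simp only [mul_assoc, inv_mul_cancel_left, inv_mul_cancel, mul_one]
  · simp at hlen

/-- **a cover commuting with an involution** -/
theorem evenz (hIH : IHx (Nat.card Fi24')) {Ω ι : Type} [Nonempty Ω] [Finite ι] [MulAction Fi24' Ω]
    (hE : Env Fi24' Ω (⊤ : Subgroup Fi24')) {x : ι → Fi24'} {r : ι → ℕ} (hx : PF x r) (hc : Cov Ω x) (z : Fi24')
    (hz2 : orderOf z = 2) (hz : ∀ i, x i * z = z * x i) (h2 : ∀ i, r i = 2 → x i = z)
    (h4 : ∀ l : List Fi24, Fac l 4 (z : Fi24) → False) : False := by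
  have ho : orderOf (z : Fi24) = 2 := by rw [Subgroup.orderOf_coe]; exact hz2
  rcases two_or_four z.2 ho with ⟨l, hl⟩ | ⟨l, hl⟩
  · obtain ⟨d, e, hd, he, hde, hce, hle, -⟩ := fac_two hl (Commute.refl _)
    refine dead hIH hE hx hc ⟨d, hd, fun j => ?_⟩
    by_cases hj : r j = 2
    · rw [h2 j hj, ← hl.2.2.2.2, hle]
      simp only [List.prod_cons, List.prod_nil, mul_one]
      exact (Commute.refl d).mul_left hce.symm
    · have hcj : Commute ((x j : Fi24') : Fi24) (z : Fi24) := congrArg Subtype.val (hz j)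
      obtain ⟨d', e', -, -, -, -, hle', hsq⟩ := fac_two hl hcj
      have hdd : d' = d := by
        rw [hle] at hle'
        simp only [List.cons.injEq] at hle'
        exact hle'.1.symm
      rw [hdd] at hsq
      exact comm_of_sq ((hx.prime j).odd_of_ne_two hj) (coe_pow hx j) hsq
  · exact h4 l hl

end Cfsg.Agent.H86.RG
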