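import Cfsg.Agent.H86.RG.Fi24Base

/-!
# S3509, row `Fi24'`: odd covers with a member of order 5 or 7, `C(y) = ⟨y⟩ × Sₙ` (helper86)

* `three_cyc`, `fix2`, `fix_odd` : permutations;
* `PM n y f` : `C(y) = ⟨y⟩ × f(Sₙ)`, the swaps are transpositions;
* `pm_case` : no odd cover with a member `y` with `PM n y f`, when the primes up to `n` are 2, `r i`, 3, `n - 2`.
-/

set_option autoImplicit false
open Cfsg

namespace Cfsg.Agent.H86.RG

open MulAction Subgroup Cfsg.Agent.H106.RC Cfsg.Agent.H873.RG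
open Cfsg.Agent.R08
open Cfsg.Spor (Fi24 Fi24' Fi23)
open Equiv Equiv.Perm

/-! ### Permutations -/

theorem three_cyc {n : ℕ} (hn : 5 ≤ n) (x : Perm (Fin n)) :
    (∃ a b : Fin n, a ≠ b ∧ x a = a ∧ x b = b) ∨
    ∃ a b : Fin n, a ≠ b ∧ Commute (swap a b) (x * swap a b * x⁻¹) ∧
      (x ^ 3 = 1 → Commute (swap a b) (x * (x * swap a b * x⁻¹) * x⁻¹)) := by
  by_cases hf : ∃ a b : Fin n, a ≠ b ∧ x a = a ∧ x b = b
  · exact Or.inl hf
  right
  push Not at hf
  have hsup : n ≤ x.support.card + 1 := by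
    have h1 : (x.supportᶜ).card ≤ 1 := by
      rw [Finset.card_le_one]
      intro a ha b hb
      by_contra hab
      rw [Finset.mem_compl, mem_support, not_not] at ha hb
      exact hf a b hab ha hb
    have h2 := Finset.card_add_card_compl x.support
    rw [Fintype.card_fin] at h2
    omega
  obtain ⟨a, ha⟩ : x.support.Nonempty := by
    rw [← Finset.card_pos]; omega
  obtain ⟨b, hb⟩ : (x.support \ {a, x a, x⁻¹ a}).Nonempty := by
    rw [← Finset.card_pos]
    have h1 := Finset.le_card_sdiff ({a, x a, x⁻¹ a} : Finset (Fin n)) x.support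
    have h2 : ({a, x a, x⁻¹ a} : Finset (Fin n)).card ≤ 3 := Finset.card_le_three
    omega
  rw [Finset.mem_sdiff, mem_support] at hb
  simp only [Finset.mem_insert, Finset.mem_singleton, not_or] at hb
  obtain ⟨hb1, hb2, hb3, hb4⟩ := hb
  rw [mem_support] at ha
  have hxb : x b ≠ a := fun h => hb4 (by rw [← h]; simp)
  have dis : ∀ c e : Fin n, c ≠ e → c ≠ a → c ≠ b → e ≠ a → e ≠ b → Commute (swap a b) (swap c e) := by
    intro c e hce hca hcb hea heb
    apply Disjoint.commute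
    rw [Equiv.Perm.disjoint_iff_disjoint_support, support_swap (Ne.symm hb2), support_swap hce, Finset.disjoint_left]
    intro k hk
    simp only [Finset.mem_insert, Finset.mem_singleton] at hk ⊢
    rcases hk with rfl | rfl
    · rintro (h | h)
      · exact hca h.symm
      · exact hea h.symm
    · rintro (h | h)
      · exact hcb h.symm
      · exact heb h.symm
  refine ⟨a, b, Ne.symm hb2, ?_, fun h3 => ?_⟩
  · rw [Prm.swap_conj]
    exact dis _ _ (fun h => hb2 (x.injective h).symm) ha (fun h => hb3 h.symm) hxb hb1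
  · rw [Prm.swap_conj, Prm.swap_conj]
    have h4 : ∀ c, x (x c) = x⁻¹ c := by
      intro c
      rw [Equiv.Perm.eq_inv_iff_eq]
      have := congrArg (fun f : Perm (Fin n) => f c) h3
      simpa [pow_succ, pow_two] using this
    rw [h4, h4]
    refine dis _ _ (fun h => hb2 (x⁻¹.injective h).symm) ?_ ?_ ?_ ?_
    · intro h; rw [Equiv.Perm.inv_eq_iff_eq] at h; exact ha h.symm
    · intro h; exact hb4 h.symm
    · intro h; rw [Equiv.Perm.inv_eq_iff_eq] at h; exact hb3 h
    · intro h; rw [Equiv.Perm.inv_eq_iff_eq] at h; exact hb1 h.symm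

theorem fix2 {n r : ℕ} (hr : r.Prime) (hr3 : 3 ≤ r) (hn : r + 2 = n) {σ : Perm (Fin n)} (h : σ ^ r = 1) (h1 : σ ≠ 1) :
    ∃ p q : Fin n, p ≠ q ∧ ∀ c, σ c = c ↔ c = p ∨ c = q := by
  have : Fact r.Prime := ⟨hr⟩
  have h2 := Equiv.Perm.card_compl_support_modEq (p := r) (n := 1) (σ := σ) (by rw [pow_one]; exact h)
  rw [Fintype.card_fin] at h2
  replace h2 : σ.supportᶜ.card ≡ r + 2 [MOD r] := by
    have e : n ≡ r + 2 [MOD r] := by rw [hn]
    exact h2.trans e
  have h3 := Finset.card_add_card_compl σ.support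
  rw [Fintype.card_fin] at h3
  have h4 : 2 ≤ σ.support.card := by
    have h5 : σ.support.card ≠ 0 := by
      rw [Ne, card_support_eq_zero]; exact h1
    have h6 : σ.support.card ≠ 1 := card_support_ne_one σ
    omega
  have h5 : (σ.supportᶜ).card = 2 := by
    have h6 : (σ.supportᶜ).card ≤ r := by omega
    have h7 : (σ.supportᶜ).card ≡ 2 [MOD r] := h2.trans (by simp [Nat.ModEq])
    rcases h6.lt_or_eq with h8 | h8
    · have h9 := h7
      unfold Nat.ModEq at h9
      rw [Nat.mod_eq_of_lt h8, Nat.mod_eq_of_lt (by omega)] at h9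
      exact h9
    · exfalso
      rw [h8] at h7
      unfold Nat.ModEq at h7
      rw [Nat.mod_self, Nat.mod_eq_of_lt (by omega)] at h7
      omega
  obtain ⟨p, q, hpq, hs⟩ := Finset.card_eq_two.1 h5
  refine ⟨p, q, hpq, fun c => ?_⟩
  have h6 : c ∈ σ.supportᶜ ↔ σ c = c := by rw [Finset.mem_compl, mem_support, not_not]
  rw [← h6, hs, Finset.mem_insert, Finset.mem_singleton]

theorem fix_odd {n m : ℕ} (hm : Odd m) {σ τ : Perm (Fin n)} (hc : σ * τ = τ * σ) (ht : τ ^ m = 1) {p q : Fin n}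
    (hpq : p ≠ q) (h : ∀ c, σ c = c ↔ c = p ∨ c = q) : τ p = p ∧ τ q = q := by
  have h1 : ∀ c, c = p ∨ c = q → τ c = p ∨ τ c = q := by
    intro c hcpq
    rw [← h] at hcpq ⊢
    have : σ (τ c) = τ (σ c) := congrArg (fun f : Perm (Fin n) => f c) hc
    rw [this, hcpq]
  obtain ⟨k, rfl⟩ := hm
  have h2 : τ = (τ ^ 2) ^ (k + 1) := by
    rw [← pow_mul, show 2 * (k + 1) = (2 * k + 1) + 1 by ring, pow_succ, ht, one_mul]
  have key : ∀ a b : Fin n, a ≠ b → (τ a = a ∨ τ a = b) → (τ b = a ∨ τ b = b) → τ a = a := by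
    intro a b hab ha hb
    have h3 : (τ ^ 2) a = a := by
      rw [pow_two, mul_apply]
      rcases ha with ha | ha
      · rw [ha, ha]
      · rw [ha]
        rcases hb with hb | hb
        · exact hb
        · exact absurd (τ.injective (ha.trans hb.symm)) hab
    rw [h2]
    exact pow_apply_eq_self_of_apply_eq_self h3 _
  have hp := h1 p (Or.inl rfl)
  have hq := h1 q (Or.inr rfl)
  exact ⟨key p q hpq hp hq, key q p hpq.symm hq.symm hp.symm⟩

theorem perm_center {n : ℕ} (hn : 3 ≤ n) {σ : Perm (Fin n)} (h : ∀ τ, σ * τ = τ * σ) : σ = 1 := by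
  apply Equiv.ext
  intro a
  by_contra ha
  have ha' : σ a ≠ a := ha
  obtain ⟨c, hc⟩ : ∃ c, c ∉ ({a, σ a} : Finset (Fin n)) := by
    by_contra h1
    push Not at h1
    have h2 : (Finset.univ : Finset (Fin n)) ⊆ {a, σ a} := fun x _ => h1 x
    have h3 := Finset.card_le_card h2
    rw [Finset.card_univ, Fintype.card_fin] at h3
    have h4 : ({a, σ a} : Finset (Fin n)).card ≤ 2 := Finset.card_le_two
    omega
  simp only [Finset.mem_insert, Finset.mem_singleton, not_or] at hc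
  have h1 := congrArg (fun f : Perm (Fin n) => f a) (h (swap (σ a) c))
  simp only [mul_apply, swap_apply_left] at h1
  rw [swap_apply_of_ne_of_ne ha'.symm (Ne.symm hc.1)] at h1
  exact hc.2 h1.symm

/-! ### The model -/

/-- `C(y) = ⟨y⟩ × f(Sₙ)` -/
structure PM (n : ℕ) (y : Fi24) (f : Perm (Fin n) →* Fi24) : Prop where
  inj : Function.Injective f
  sw : ∀ i j, i ≠ j → f (swap i j) ∈ TT
  com : ∀ σ, Commute (f σ) y
  ex : ∀ z, Commute z y → ∃ k : ℤ, ∃ σ, z = y ^ k * f σ

theorem PM.conj {n : ℕ} {y : Fi24} {f : Perm (Fin n) →* Fi24} (h : PM n y f) (g : Fi24) :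
    PM n (g * y * g⁻¹) ((MulAut.conj g).toMonoidHom.comp f) where
  inj := (MulAut.conj g).injective.comp h.inj
  sw i j hij := FiTwentyFour.conj (h.sw i j hij) g
  com σ := (h.com σ).map (MulAut.conj g).toMonoidHom
  ex z hz := by
    have h1 : Commute (g⁻¹ * z * g) y := by
      have h2 := hz.map (MulAut.conj g⁻¹).toMonoidHom
      have e1 : (MulAut.conj g⁻¹).toMonoidHom (g * y * g⁻¹) = y := by
        show g⁻¹ * (g * y * g⁻¹) * g⁻¹⁻¹ = y
        group
      have e2 : (MulAut.conj g⁻¹).toMonoidHom z = g⁻¹ * z * g := by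
        show g⁻¹ * z * g⁻¹⁻¹ = _
        rw [inv_inv]
      rwa [e1, e2] at h2
    obtain ⟨k, σ, h2⟩ := h.ex _ h1
    refine ⟨k, σ, ?_⟩
    have h3 : z = g * (g⁻¹ * z * g) * g⁻¹ := by group
    rw [h3, h2, gp_conj_mul, ← conj_zpow]
    rfl

theorem PM.of_zpowers {n : ℕ} {y y' : Fi24} {f : Perm (Fin n) →* Fi24} (h : PM n y f) (h1 : y' ∈ zpowers y)
    (h2 : y ∈ zpowers y') : PM n y' f where
  inj := h.inj
  sw := h.sw
  com σ := by
    obtain ⟨k, rfl⟩ := h1
    exact (h.com σ).zpow_right k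
  ex z hz := by
    have h3 : Commute z y := by
      obtain ⟨k, rfl⟩ := h2
      exact hz.zpow_right k
    obtain ⟨k, σ, h4⟩ := h.ex z h3
    obtain ⟨m, rfl⟩ := h2
    exact ⟨m * k, σ, by rw [zpow_mul]; exact h4⟩

theorem PM.others {n p q : ℕ} {y : Fi24} {f : Perm (Fin n) →* Fi24} (h : PM n y f) (hn : 3 ≤ n) (hp : p.Prime)
    (hq : q.Prime) (hqp : q ≠ p) (hy : y ^ p = 1) {z : Fi24} (hz : z ^ q = 1) (hzy : Commute z y) : ∃ σ, z = f σ := by
  obtain ⟨k, σ, rfl⟩ := h.ex z hzy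
  have hcm : Commute (y ^ k) (f σ) := (h.com σ).symm.zpow_left k
  rw [hcm.mul_pow] at hz
  have h1 : σ ^ q = 1 := by
    apply perm_center hn
    intro τ
    apply h.inj
    rw [map_mul, map_mul, map_pow]
    have h2 : f σ ^ q = ((y ^ k) ^ q)⁻¹ := by rw [eq_inv_iff_mul_eq_one, ← (hcm.pow_pow q q).eq]; exact hz
    rw [h2]
    exact ((((h.com τ).zpow_right k).pow_right q).inv_right).symm.eq
  have h2 : (y ^ k) ^ q = 1 := by
    rw [← map_pow, h1, map_one, mul_one] at hz
    exact hz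
  have h3 : (y ^ k) ^ p = 1 := by
    rw [← zpow_natCast (y ^ k), ← zpow_mul, mul_comm, zpow_mul, zpow_natCast, hy, one_zpow]
  have h4 : y ^ k = 1 := by
    have h5 := orderOf_dvd_of_pow_eq_one h2
    have h6 := orderOf_dvd_of_pow_eq_one h3
    have h7 : orderOf (y ^ k) ∣ 1 := by
      rw [← (Nat.coprime_primes hq hp).2 hqp]
      exact Nat.dvd_gcd h5 h6
    rw [← pow_orderOf_eq_one (y ^ k), Nat.dvd_one.1 h7, pow_one]
  exact ⟨σ, by rw [h4, one_mul]⟩

/-- **no odd cover with a member `y`, `C(y) = ⟨y⟩ × Sₙ`** -/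
theorem pm_case (hIH : IHx (Nat.card Fi24')) {Ω ι : Type} [Nonempty Ω] [Finite ι] [MulAction Fi24' Ω]
    (hE : Env Fi24' Ω (⊤ : Subgroup Fi24')) {x : ι → Fi24'} {r : ι → ℕ} (hx : PF x r) (hc : Cov Ω x)
    (h2 : ∀ j, r j ≠ 2) (i : ι) {n : ℕ} (hn : 5 ≤ n) {f : Perm (Fin n) →* Fi24} (hf : PM n (x i : Fi24) f)
    (hpr : ∀ q, q.Prime → q ≤ n → q ≠ 2 → q ≠ r i → q = 3 ∨ q + 2 = n) : False := by
  classical
  have hex : ∀ j, ∃ σ : Perm (Fin n), j ≠ i → ((x j : Fi24') : Fi24) = f σ := by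
    intro j
    by_cases hj : j = i
    · exact ⟨1, fun h => absurd hj h⟩
    · obtain ⟨σ, hσ⟩ := hf.others (by omega) (hx.prime i) (hx.prime j) (fun h => hj (hx.inj h)) (coe_pow hx i)
        (coe_pow hx j) (coe_comm hx j i)
      exact ⟨σ, fun _ => hσ⟩
  choose σ hσ using hex
  have hpow : ∀ j, j ≠ i → σ j ^ r j = 1 := fun j hj => hf.inj (by rw [map_pow, ← hσ j hj, coe_pow hx j, map_one])
  have hne : ∀ j, j ≠ i → σ j ≠ 1 := fun j hj h => coe_ne hx j (by rw [hσ j hj, h, map_one])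
  have hcm : ∀ j k, j ≠ i → k ≠ i → σ j * σ k = σ k * σ j := fun j k hj hk => hf.inj (by
    rw [map_mul, map_mul, ← hσ j hj, ← hσ k hk]; exact coe_comm hx j k)
  have hr : ∀ j, j ≠ i → r j = 3 ∨ r j + 2 = n := by
    intro j hj
    refine hpr _ (hx.prime j) ?_ (h2 j) (fun h => hj (hx.inj h))
    have : Fact (r j).Prime := ⟨hx.prime j⟩
    have h3 := orderOf_dvd_natCard (σ j)
    rw [orderOf_eq_prime (hpow j hj) (hne j hj), Nat.card_perm, Nat.card_fin] at h3
    exact ((hx.prime j).dvd_factorial).1 h3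
  -- a swap commuting with all the `σ j` kills
  have kill : ∀ a b : Fin n, a ≠ b → (∀ j, j ≠ i → swap a b * σ j = σ j * swap a b) → False := by
    intro a b hab h
    refine dead hIH hE hx hc ⟨f (swap a b), hf.sw a b hab, fun j => ?_⟩
    by_cases hj : j = i
    · subst hj; exact (hf.com _).symm
    · rw [hσ j hj]
      show f (σ j) * f (swap a b) = f (swap a b) * f (σ j)
      rw [← map_mul, ← h j hj, map_mul]
  by_cases hb : ∃ j, j ≠ i ∧ r j ≠ 3
  · obtain ⟨j, hj, hj3⟩ := hb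
    have hjn : r j + 2 = n := (hr j hj).resolve_left hj3
    have hj2 := h2 j
    have hpj := (hx.prime j).two_le
    obtain ⟨p, q, hpq, hfx⟩ := fix2 (hx.prime j) (by omega) hjn (hpow j hj) (hne j hj)
    refine kill p q hpq fun k hk => ?_
    obtain ⟨h3, h4⟩ := fix_odd ((hx.prime k).odd_of_ne_two (h2 k)) (hcm j k hj hk) (hpow k hk) hpq hfx
    exact Prm.comm_swap_of_fix h3 h4
  push Not at hb
  by_cases hj : ∃ j, j ≠ i
  · obtain ⟨j, hj⟩ := hj
    have huniq : ∀ k, k ≠ i → k = j := fun k hk => hx.inj ((hb k hk).trans (hb j hj).symm)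
    have h3 : σ j ^ 3 = 1 := by rw [← hb j hj]; exact hpow j hj
    rcases three_cyc hn (σ j) with ⟨a, b, hab, ha, hb'⟩ | ⟨a, b, hab, h4, h5⟩
    · refine kill a b hab fun k hk => ?_
      rw [huniq k hk]
      exact Prm.comm_swap_of_fix ha hb'
    · refine cyc hIH hE hx hc (i := j) (hb j hj) h2 (hf.sw a b hab) (fun k hk => ?_) ?_ ?_
      · have hki : k = i := by
          by_contra hki
          exact hk (huniq k hki)
        subst hki
        exact (hf.com _).symm
      · have h6 := h4.map f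
        rw [map_mul, map_mul, map_inv, ← hσ j hj] at h6
        exact h6
      · have h6 := (h5 h3).map f
        rw [map_mul, map_mul, map_mul, map_mul, map_inv, ← hσ j hj] at h6
        exact h6
  · push Not at hj
    exact kill ⟨0, by omega⟩ ⟨1, by omega⟩ (by simp) fun k hk => absurd (hj k) hk

end Cfsg.Agent.H86.RG
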