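import Cfsg.Agent.H86.RG.Fi24Asm
import Cfsg.Agent.H273.RG.FiGlue
import Cfsg.Agent.H273.RG.Big
import Cfsg.Agent.H759.RG.Eleven

/-!
# S3509, row `Fi24'` from the 4-product rule, `7B` and the elements of order 13 (helper86)
-/

set_option autoImplicit false
open Cfsg

namespace Cfsg.Agent.H86.RG

open Subgroup Cfsg.Agent.H106.RC Cfsg.Agent.H873.RG
open Cfsg.Spor (Fi24 Fi24' Fi23)

theorem rc_fi24_of (hT : Two4) (h21 : Inv21) (h13 : Thirteen) (h13' : ThirteenPrimes) {S : Type} [Group S] [Finite S]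
    (h : Spor.IsoFi24' S) (hIH : IHx (Nat.card S)) : RC S :=
  Cfsg.Agent.H273.RG.rc_of_caseL h hIH fun hI => fun hE _ _ _ _ hx hc =>
    caseL_of hT h21 h13 h13' (fun hy => Cfsg.Agent.H759.RG.eleven hy)
      (fun hy hx hc => Cfsg.Agent.H273.RG.self_cent hy hx hc) hI hE hx hc

end Cfsg.Agent.H86.RG
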