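import Cfsg.Agent.H86.RG.Fi24Asm
import Cfsg.Agent.H713.B0R.FiSeven
import Cfsg.Agent.H468.K6.FiSeven

/-!
# S3509, row `Fi24'`: elements of order 3 commuting with an element of class `7B` (helper86; plan of helper828)

* `inv21` : an involution of `Fi24'` commutes with both.
-/

set_option autoImplicit false
set_option maxRecDepth 100000
open Cfsg

namespace Cfsg.Agent.H86.RG

open MulAction Subgroup
open Cfsg.Agent.R08
open Cfsg.Spor (Fi24 Fi24' Fi23)
open Cfsg.Agent.H713.B0R.FiSeven Cfsg.Agent.H842.Seven Cfsg.Agent.H842.SevenSyl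
open Cfsg.Agent.Fischer.Fi24RepDef Cfsg.Agent.Fischer.Fi24Rep
open Cfsg.Agent.H468.K6.Fi (r0 r0_pow r0_c r0_y7)
open Cfsg.Agent.H842.ThreeCl (X)

/-- `s` commutes with no transposition -/
def NT (s : Fi24) : Prop := ∀ d ∈ TT, ¬ Commute s d

theorem NT.conj {s : Fi24} (h : NT s) (g : Fi24) : NT (g * s * g⁻¹) := by
  intro d hd hc
  refine h (g⁻¹ * d * g) ?_ ?_
  · have h1 := FiTwentyFour.conj hd g⁻¹
    rwa [inv_inv] at h1
  · have h1 := hc.map (MulAut.conj g⁻¹).toMonoidHom
    have e1 : (MulAut.conj g⁻¹).toMonoidHom (g * s * g⁻¹) = s := by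
      show g⁻¹ * (g * s * g⁻¹) * g⁻¹⁻¹ = s
      group
    have e2 : (MulAut.conj g⁻¹).toMonoidHom d = g⁻¹ * d * g := by
      show g⁻¹ * d * g⁻¹⁻¹ = _
      rw [inv_inv]
    rwa [e1, e2] at h1

theorem nt_c : NT c := fun _ hd h => not_comm_c hd h.eq

theorem cM_zero {x s : Fi24} (hs : orderOf s = 7) (hc : Commute s x) (hT : NT s) : cM x ≡ 0 [MOD 7] := by
  have h1 := cM_mod hs hc
  have h2 : Nat.card {d : Mv x // Commute s (d : Fi24)} = 0 := by
    have : IsEmpty {d : Mv x // Commute s (d : Fi24)} := ⟨fun d => hT _ d.1.2.1 d.2⟩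
    exact Nat.card_of_isEmpty
  rwa [h2] at h1

/-- `x` is in class 1 -/
theorem cl_one {x s : Fi24} (hx : orderOf x = 3) (hs : orderOf s = 7) (hc : Commute s x) (hT : NT s) : Cl 1 x := by
  have hm := cM_zero hs hc hT
  have hx3 : x ^ 3 = 1 := by rw [← hx]; exact pow_orderOf_eq_one x
  have hx1 : x ≠ 1 := by
    intro h
    rw [h, orderOf_one] at hx
    exact absurd hx (by norm_num)
  obtain ⟨i, hi⟩ := exists_cl hx3 hx1
  -- the classes 2 and 4
  have key : (i = 2 ∨ i = 4) → False := by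
    intro hi'
    rcases cl_cases hi' with h | h
    · rw [hi.cM_eq, ← h.cM_eq, cMz] at hm
      exact absurd hm (by decide)
    · obtain ⟨g, hg⟩ := hi.conj h
      have hsw : Commute (g * s * g⁻¹) w1 := by
        have h1 : Commute (g * s * g⁻¹) (g * x * g⁻¹) := hc.map (MulAut.conj g).toMonoidHom
        rcases hg with hg | hg
        · rwa [hg] at h1
        · rw [hg] at h1
          have h2 := h1.inv_right
          rwa [inv_inv] at h2
      have h7 : Fact (Nat.Prime 7) := ⟨by norm_num⟩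
      have hfin := fin24
      have hfac : (Nat.card ↥(centralizer ({w1} : Set Fi24))).factorization 7 = 1 := by
        have hne : Nat.card ↥(centralizer ({w1} : Set Fi24)) ≠ 0 := Nat.card_pos.ne'
        have h1 : 7 ^ 1 ∣ Nat.card ↥(centralizer ({w1} : Set Fi24)) := by
          rw [pow_one]
          have := orderOf_dvd_natCard (⟨y7, mem_centralizer_singleton_iff.2 y7_w1⟩ : ↥(centralizer ({w1} : Set Fi24)))
          rwa [Subgroup.orderOf_mk, oy7] at this
        have h2 := (Nat.Prime.pow_dvd_iff_le_factorization h7.out hne).1 h1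
        have h3 : ¬ 2 ≤ (Nat.card ↥(centralizer ({w1} : Set Fi24))).factorization 7 := fun h =>
          not_49 ((Nat.Prime.pow_dvd_iff_le_factorization h7.out hne).2 h)
        omega
      have hos : orderOf (g * s * g⁻¹) = 7 := by rw [← hs]; exact MulEquiv.orderOf_eq (MulAut.conj g) _
      obtain ⟨⟨k, hk⟩, i', hi2⟩ := conj_of_card hfac (x := ⟨_, mem_centralizer_singleton_iff.2 hsw⟩)
        (y := ⟨_, mem_centralizer_singleton_iff.2 y7_w1⟩) (by rw [Subgroup.orderOf_mk]; exact hos)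
        (by rw [Subgroup.orderOf_mk]; exact oy7)
      have h2 : y7 ^ i' = k * (g * s * g⁻¹) * k⁻¹ := congrArg Subtype.val hi2
      refine (hT.conj g).conj k (gen .l) (FiTwentyFour.gen_mem_L .l) ?_
      rw [← h2]
      exact (show Commute y7 (gen .l) from y7_t 0).zpow_left i'
  fin_cases i
  · exfalso
    have h : cM x = cM (X 0) := hi.cM_eq
    rw [h, cM0] at hm
    exact absurd hm (by decide)
  · exact hi
  · exact (key (Or.inl rfl)).elim
  · exfalso
    have h : cM x = cM (X 3) := hi.cM_eq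
    rw [h, cM3] at hm
    exact absurd hm (by decide)
  · exact (key (Or.inr rfl)).elim

/-! ### Permutations of seven points -/

theorem perm_21 {σ ρ : Equiv.Perm (Fin 7)} (h7 : σ ^ 7 = 1) (hσ : σ ≠ 1) (h3 : ρ ^ 3 = 1) (hc : ρ * σ = σ * ρ) : ρ = 1 := by
  have f3 : Fact (Nat.Prime 3) := ⟨Nat.prime_three⟩
  have f7 : Fact (Nat.Prime 7) := ⟨by norm_num⟩
  -- a fixed point of ρ
  have h1 := Equiv.Perm.card_compl_support_modEq (p := 3) (n := 1) (σ := ρ) (by rw [pow_one]; exact h3)
  rw [Fintype.card_fin] at h1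
  obtain ⟨a, ha⟩ : (ρ.supportᶜ).Nonempty := by
    rw [← Finset.card_pos]
    rcases Nat.eq_zero_or_pos (ρ.supportᶜ).card with h | h
    · rw [h] at h1
      exact absurd h1 (by decide)
    · exact h
  rw [Finset.mem_compl, Equiv.Perm.mem_support, not_not] at ha
  -- σ has no fixed point
  have h2 := Equiv.Perm.card_compl_support_modEq (p := 7) (n := 1) (σ := σ) (by rw [pow_one]; exact h7)
  rw [Fintype.card_fin] at h2
  have hs0 : (σ.supportᶜ).card = 0 := by
    have h4 := Finset.card_add_card_compl σ.support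
    rw [Fintype.card_fin] at h4
    have h5 : σ.support.card ≠ 0 := by
      rw [Ne, Equiv.Perm.card_support_eq_zero]; exact hσ
    have h6 : (σ.supportᶜ).card < 7 := by omega
    unfold Nat.ModEq at h2
    rw [Nat.mod_eq_of_lt h6] at h2
    exact h2
  have hnf : ∀ b, σ b ≠ b := by
    intro b hb
    rw [Finset.card_eq_zero] at hs0
    have : b ∈ σ.supportᶜ := by rw [Finset.mem_compl, Equiv.Perm.mem_support, not_not]; exact hb
    rw [hs0] at this
    exact absurd this (Finset.notMem_empty _)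
  have hinj : Function.Injective (fun i : Fin 7 => (σ ^ (i : ℕ)) a) := by
    have key : ∀ i j : Fin 7, (i : ℕ) < j → (σ ^ (i : ℕ)) a = (σ ^ (j : ℕ)) a → False := by
      intro i j hij h
      have h4 : (σ ^ ((j : ℕ) - i)) a = a := by
        apply (σ ^ (i : ℕ)).injective
        rw [← Equiv.Perm.mul_apply, ← pow_add, h]
        congr 2
        omega
      obtain ⟨m, -, hm⟩ := Nat.exists_mul_mod_eq_one_of_coprime (k := 7) (n := (j : ℕ) - i) (by
        refine ((f7.out.coprime_iff_not_dvd).2 fun h => ?_).symm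
        have := Nat.le_of_dvd (by omega) h
        omega) (by norm_num)
      have h5 : σ = (σ ^ ((j : ℕ) - i)) ^ m := by
        rw [← pow_mul, pow_eq_pow_mod _ h7, hm, pow_one]
      apply hnf a
      rw [h5]
      exact Equiv.Perm.pow_apply_eq_self_of_apply_eq_self h4 m
    intro i j h
    rcases lt_trichotomy (i : ℕ) j with h4 | h4 | h4
    · exact (key i j h4 h).elim
    · exact Fin.ext h4
    · exact (key j i h4 h.symm).elim
  have hsurj := Finite.injective_iff_surjective.1 hinj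
  apply Equiv.ext
  intro b
  obtain ⟨i, rfl⟩ := hsurj b
  show ρ ((σ ^ (i : ℕ)) a) = (σ ^ (i : ℕ)) a
  have h4 : Commute ρ (σ ^ (i : ℕ)) := (show Commute ρ σ from hc).pow_right _
  have h5 : ρ ((σ ^ (i : ℕ)) a) = (σ ^ (i : ℕ)) (ρ a) := congrArg (fun f : Equiv.Perm (Fin 7) => f a) h4.eq
  rw [h5, ha]

/-! ### The centralizer of `r0` -/

theorem c_ord : orderOf c = 7 := by
  have : Fact (Nat.Prime 7) := ⟨by norm_num⟩
  exact orderOf_eq_prime Cfsg.Agent.H842.SevenSyl.c_pow c_ne

theorem r0_ne : r0 ≠ 1 := by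
  intro h
  have h1 := r0_y7
  rw [h, one_mul, inv_one, mul_one] at h1
  have h2 : y7 ^ 8 = 1 := by
    have h3 : y7 ^ 8 * y7 = 1 * y7 := by rw [one_mul, ← pow_succ]; exact h1.symm
    exact mul_right_cancel h3
  have h3 := orderOf_dvd_of_pow_eq_one h2
  rw [oy7] at h3
  omega

theorem r0_ord : orderOf r0 = 3 := by
  have : Fact (Nat.Prime 3) := ⟨Nat.prime_three⟩
  exact orderOf_eq_prime r0_pow r0_ne

/-- an element of order 7 commuting with `r0`, `c` commutes with no transposition -/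
theorem nt_of {k : Fi24} (hk7 : k ^ 7 = 1) (hk1 : k ≠ 1) (hkr : Commute k r0) (hkc : Commute k c) : NT k := by
  have f7 : Fact (Nat.Prime 7) := ⟨by norm_num⟩
  rcases pm_seven (orderOf_eq_prime hk7 hk1) with h | ⟨f, hf⟩
  · exact h
  exfalso
  obtain ⟨ρ, hρ⟩ := hf.others (p := 7) (q := 3) (by norm_num) (by norm_num) Nat.prime_three (by norm_num) hk7 r0_pow hkr.symm
  obtain ⟨m, σ, hσ⟩ := hf.ex c hkc.symm
  have hcm : Commute (k ^ m) (f σ) := (hf.com σ).symm.zpow_left m
  have hkm : (k ^ m) ^ 7 = 1 := by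
    rw [← zpow_natCast (k ^ m), ← zpow_mul, mul_comm, zpow_mul, zpow_natCast, hk7, one_zpow]
  have hσ7 : σ ^ 7 = 1 := by
    apply hf.inj
    have h1 := Cfsg.Agent.H842.SevenSyl.c_pow
    rw [hσ, hcm.mul_pow, hkm, one_mul] at h1
    rw [map_pow, h1, map_one]
  have hσ1 : σ ≠ 1 := by
    intro h
    rw [h, map_one, mul_one] at hσ
    refine nt_c (f (Equiv.swap 0 1)) (hf.sw 0 1 (by decide)) ?_
    rw [hσ]
    exact ((hf.com _).symm).zpow_left m
  have hρ3 : ρ ^ 3 = 1 := hf.inj (by rw [map_pow, ← hρ, r0_pow, map_one])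
  have hcr : ρ * σ = σ * ρ := by
    apply hf.inj
    rw [map_mul, map_mul, ← hρ]
    have h1 : Commute r0 c := r0_c
    rw [hσ] at h1
    have h2 : Commute r0 (k ^ m) := hkr.symm.zpow_right m
    have h3 : Commute r0 (k ^ m * f σ) := h1
    have h4 : Commute r0 ((k ^ m)⁻¹ * (k ^ m * f σ)) := h2.inv_right.mul_right h3
    rwa [inv_mul_cancel_left] at h4
  apply r0_ne
  rw [hρ, perm_21 hσ7 hσ1 hρ3 hcr, map_one]

theorem cl_r0 : Cl 1 r0 := cl_one r0_ord c_ord (show Commute r0 c from r0_c).symm nt_c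

/-- the transpositions commuting with `r0` -/
def D1 : Set Fi24 := {d | d ∈ FiTwentyFour.L ∧ Commute r0 d}

theorem ncard_D1 : D1.ncard = 378 := by
  have := fin24
  have h3 : (Mv r0 ∪ D1).ncard = (Mv r0).ncard + D1.ncard :=
    Set.ncard_union_eq (Set.disjoint_left.2 fun d h4 h5 => h4.2 h5.2)
  have h4 : Mv r0 ∪ D1 = FiTwentyFour.L := by
    ext d
    constructor
    · rintro (h | h)
      · exact h.1
      · exact h.1
    · intro h
      by_cases hc : Commute r0 d
      · exact Or.inr ⟨h, hc⟩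
      · exact Or.inl ⟨h, hc⟩
  rw [h4, FiTwentyFour.ncard_L] at h3
  have h5 : (Mv r0).ncard = 306558 := by
    have h6 : cM r0 = cM (X 1) := cl_r0.cM_eq
    rw [cM1] at h6
    exact h6
  omega

theorem not_49_r0 : ¬ 7 ^ 2 ∣ Nat.card ↥(centralizer ({r0} : Set Fi24)) := by
  intro h
  have := fin24
  have h7 : Fact (Nat.Prime 7) := ⟨by norm_num⟩
  set H := centralizer ({r0} : Set Fi24) with hH
  have hc : c ∈ H := mem_centralizer_singleton_iff.2 (show Commute r0 c from r0_c).symm.eq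
  obtain ⟨K, hK, hle⟩ := Sylow.exists_subgroup_card_pow_succ (p := 7) (n := 1) (G := H) h
    (H := zpowers (⟨c, hc⟩ : H)) (by rw [Nat.card_zpowers, Subgroup.orderOf_mk, c_ord, pow_one])
  have hcomm : ∀ a b : K, a * b = b * a := IsPGroup.commutative_of_card_eq_prime_sq hK
  have hkr : ∀ k : K, Commute (((k : H) : Fi24)) r0 := fun k => mem_centralizer_singleton_iff.1 (k : H).2
  have hkc : ∀ k : K, Commute (((k : H) : Fi24)) c := by
    intro k
    have h2 := hcomm k ⟨⟨c, hc⟩, hle (mem_zpowers _)⟩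
    exact congrArg (fun a : K => ((a : H) : Fi24)) h2
  have hnt : ∀ k : K, k ≠ 1 → NT ((k : H) : Fi24) := by
    intro k hk
    have hk1 : ((k : H) : Fi24) ≠ 1 := fun h => hk (Subtype.ext (Subtype.ext h))
    by_cases h8 : ((k : H) : Fi24) ^ 7 = 1
    · exact nt_of h8 hk1 (hkr k) (hkc k)
    · have h49 : ((k : H) : Fi24) ^ 49 = 1 := by
        have h6 : orderOf k ∣ 49 := by
          have := orderOf_dvd_natCard k
          rw [hK] at this
          exact this
        have h7 := orderOf_dvd_iff_pow_eq_one.1 h6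
        exact congrArg (fun a : K => ((a : H) : Fi24)) h7
      intro d hd hkd
      refine nt_of (k := ((k : H) : Fi24) ^ 7) ?_ h8 ((hkr k).pow_left 7) ((hkc k).pow_left 7) d hd (hkd.pow_left 7)
      rw [← pow_mul]; exact h49
  -- the action on the 378 transpositions
  have hact : ∀ (k : K) (d : Fi24), d ∈ D1 → ((k : H) : Fi24) * d * ((k : H) : Fi24)⁻¹ ∈ D1 := by
    rintro k d ⟨h1, h2⟩
    refine ⟨FiTwentyFour.conj h1 _, ?_⟩
    exact ((hkr k).symm.mul_right h2).mul_right (hkr k).symm.inv_right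
  let _ : MulAction K D1 :=
    { smul := fun k d => ⟨((k : H) : Fi24) * d * ((k : H) : Fi24)⁻¹, hact k d d.2⟩
      one_smul := fun d => Subtype.ext (by show (1 : Fi24) * d * (1 : Fi24)⁻¹ = d; group)
      mul_smul := fun x y d => Subtype.ext (by
        show (((x : H) : Fi24) * ((y : H) : Fi24)) * d * (((x : H) : Fi24) * ((y : H) : Fi24))⁻¹ =
          ((x : H) : Fi24) * (((y : H) : Fi24) * d * ((y : H) : Fi24)⁻¹) * ((x : H) : Fi24)⁻¹
        group) }
  have hfree : ∀ d : D1, stabilizer K d = ⊥ := by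
    intro d
    rw [eq_bot_iff]
    intro k hk
    rw [mem_bot]
    by_contra hk1
    have h1 : ((k : H) : Fi24) * d * ((k : H) : Fi24)⁻¹ = d := congrArg Subtype.val (mem_stabilizer_iff.1 hk)
    exact hnt k hk1 d d.2.1 (mul_inv_eq_iff_eq_mul.1 h1)
  have h1 := Nat.card_congr (MulAction.selfEquivOrbitsQuotientProd hfree)
  rw [Nat.card_prod, hK] at h1
  have h2 : Nat.card D1 = 378 := ncard_D1
  rw [h2] at h1
  omega

/-! ### The involution -/

theorem t6_three_sq : (t6 ^ 3) ^ 2 = 1 := by rw [← pow_mul]; exact t6_pow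

theorem t6_three_ne : t6 ^ 3 ≠ 1 := by
  intro h
  have h1 : t6 ^ 3 * y7 * (t6 ^ 3)⁻¹ = y7 ^ 27 := by
    rw [← gp_conj_three, t6_y7, ← conj_pow, t6_y7, ← conj_pow, ← conj_pow, t6_y7, ← pow_mul, ← pow_mul]
  rw [h, one_mul, inv_one, mul_one] at h1
  have h2 : y7 ^ 26 = 1 := by
    have h3 : y7 ^ 26 * y7 = 1 * y7 := by rw [one_mul, ← pow_succ]; exact h1.symm
    exact mul_right_cancel h3
  have h3 := orderOf_dvd_of_pow_eq_one h2
  rw [oy7] at h3
  omega

theorem t6_mem : t6 ∈ commutator Fi24 := by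
  have hs7 : LThreeFi24.SNine.s 7 ∈ FiTwentyFour.L := t_mem 5
  have e : t6 = (gen .h * gen .f) * ((gen .e * gen .d) * ((gen .f * gen .j) * (gen .g * LThreeFi24.SNine.s 7))) := by
    unfold t6
    rw [t0_eq]
    simp only [mul_assoc]
  rw [e]
  have hg := FiTwentyFour.gen_mem_L
  exact mul_mem (FiTwentyFour.even (hg _) (hg _)) (mul_mem (FiTwentyFour.even (hg _) (hg _))
    (mul_mem (FiTwentyFour.even (hg _) (hg _)) (FiTwentyFour.even (hg _) hs7)))

/-- **an element of order 3 and an element of class `7B`** -/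
theorem inv21 : Inv21 := by
  intro x s hx hs hxs hT
  have hfin := fin24
  have f2 : Fact (Nat.Prime 2) := ⟨Nat.prime_two⟩
  have f7 : Fact (Nat.Prime 7) := ⟨by norm_num⟩
  obtain ⟨g, hg⟩ := (cl_one hx hs hxs.symm hT).conj cl_r0
  have hsr : Commute (g * s * g⁻¹) r0 := by
    have h1 : Commute (g * s * g⁻¹) (g * x * g⁻¹) := hxs.symm.map (MulAut.conj g).toMonoidHom
    rcases hg with hg | hg
    · rwa [hg] at h1
    · rw [hg] at h1
      have h2 := h1.inv_right
      rwa [inv_inv] at h2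
  have hfac : (Nat.card ↥(centralizer ({r0} : Set Fi24))).factorization 7 = 1 := by
    have hne : Nat.card ↥(centralizer ({r0} : Set Fi24)) ≠ 0 := Nat.card_pos.ne'
    have h1 : 7 ^ 1 ∣ Nat.card ↥(centralizer ({r0} : Set Fi24)) := by
      rw [pow_one]
      have := orderOf_dvd_natCard (⟨c, mem_centralizer_singleton_iff.2
        (show Commute r0 c from r0_c).symm.eq⟩ : ↥(centralizer ({r0} : Set Fi24)))
      rwa [Subgroup.orderOf_mk, c_ord] at this
    have h2 := (Nat.Prime.pow_dvd_iff_le_factorization f7.out hne).1 h1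
    have h3 : ¬ 2 ≤ (Nat.card ↥(centralizer ({r0} : Set Fi24))).factorization 7 := fun h =>
      not_49_r0 ((Nat.Prime.pow_dvd_iff_le_factorization f7.out hne).2 h)
    omega
  have hos : orderOf (g * s * g⁻¹) = 7 := by rw [← hs]; exact MulEquiv.orderOf_eq (MulAut.conj g) _
  obtain ⟨⟨k, hk⟩, i, hi⟩ := conj_of_card hfac (x := ⟨_, mem_centralizer_singleton_iff.2 hsr⟩)
    (y := ⟨_, mem_centralizer_singleton_iff.2 (show Commute r0 c from r0_c).symm.eq⟩)
    (by rw [Subgroup.orderOf_mk]; exact hos) (by rw [Subgroup.orderOf_mk]; exact c_ord)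
  have h2 : c ^ i = k * (g * s * g⁻¹) * k⁻¹ := congrArg Subtype.val hi
  have hkr : Commute k r0 := mem_centralizer_singleton_iff.1 hk
  -- conjugating back
  have back : ∀ a b : Fi24, Commute a ((k * g) * b * (k * g)⁻¹) → Commute ((k * g)⁻¹ * a * (k * g)) b := by
    intro a b h
    have h1 := h.map (MulAut.conj (k * g)⁻¹).toMonoidHom
    have e1 : (MulAut.conj (k * g)⁻¹).toMonoidHom a = (k * g)⁻¹ * a * (k * g) := by
      show (k * g)⁻¹ * a * (k * g)⁻¹⁻¹ = _
      rw [inv_inv]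
    have e2 : (MulAut.conj (k * g)⁻¹).toMonoidHom ((k * g) * b * (k * g)⁻¹) = b := by
      show (k * g)⁻¹ * ((k * g) * b * (k * g)⁻¹) * (k * g)⁻¹⁻¹ = _
      group
    rwa [e1, e2] at h1
  have ht0 : Commute t6 c := by rw [c_eq]; exact t6_Psi _
  have htc : Commute (t6 ^ 3) (c ^ i) := (ht0.pow_left 3).zpow_right i
  have htr : Commute (t6 ^ 3) r0 := by
    show Commute (t6 ^ 3) (t6 ^ 2)
    exact Commute.pow_pow_self t6 3 2
  have hmem : t6 ^ 3 ∈ commutator Fi24 := pow_mem t6_mem 3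
  refine ⟨(k * g)⁻¹ * t6 ^ 3 * (k * g), ?_, ?_, back _ _ ?_, back _ _ ?_⟩
  · have h3 : orderOf (t6 ^ 3) = 2 := orderOf_eq_prime t6_three_sq t6_three_ne
    rw [← h3]
    have := MulEquiv.orderOf_eq (MulAut.conj (k * g)⁻¹) (t6 ^ 3)
    rw [MulAut.conj_apply, inv_inv] at this
    exact this
  · have h3 := (inferInstance : (commutator Fi24).Normal).conj_mem _ hmem (k * g)⁻¹
    rwa [inv_inv] at h3
  · have e : (k * g) * x * (k * g)⁻¹ = k * (g * x * g⁻¹) * k⁻¹ := by group
    rw [e]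
    rcases hg with hg | hg
    · rw [hg, hkr.eq, mul_inv_cancel_right]; exact htr
    · rw [hg, hkr.inv_right.eq, mul_inv_cancel_right]; exact htr.inv_right
  · have e : (k * g) * s * (k * g)⁻¹ = k * (g * s * g⁻¹) * k⁻¹ := by group
    rw [e, ← h2]
    exact htc

end Cfsg.Agent.H86.RG
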