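import Cfsg.Agent.H86.RG.Fi24Row
import Cfsg.Agent.H273.RG.TwoB
import Cfsg.Agent.H273.RG.Thirteen
import Cfsg.Agent.H86.RG.Fi24Sev

/-!
# S3509, row `Fi24'` (helper86)
-/

set_option autoImplicit false
open Cfsg

namespace Cfsg.Agent.H86.RG

open Subgroup Cfsg.Agent.H106.RC Cfsg.Agent.H873.RG
open Cfsg.Spor (Fi24 Fi24' Fi23)

/-- **`RC` for `Fi24'`** -/
theorem rc_fi24 {S : Type} [Group S] [Finite S] (h : Spor.IsoFi24' S) (hIH : IHx (Nat.card S)) : RC S :=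
  rc_fi24_of Cfsg.Agent.H273.RG.two4 inv21
    (fun hy hx hc => Cfsg.Agent.H273.RG.thirteen hy hx hc)
    (fun hy hr hx hc => Cfsg.Agent.H273.RG.thirteen_primes hy hr hx hc) h hIH

/-- the row -/
theorem row_fi24 : RowX (fun S _ => Spor.IsoFi24' S) := fun _ _ _ _ h hIH => rc_fi24 h hIH

end Cfsg.Agent.H86.RG
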